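import Groth.Agent.GrFlat5.FlatAtFamily
import Groth.Agent.FibFlatMod.Morph
import Groth.Agent.FlatLocus.Basic
import Groth.Agent.FlatDvrVC5.SchemePoint
import Groth.Agent.Hensel.Henselization

/-!
# Flatness at a prime tested on one dominating algebra: the Noetherian criterion in rings
-/

set_option autoImplicit false
set_option linter.style.haveILetI false
set_option backward.isDefEq.respectTransparency false
set_option backward.isDefEq.respectTransparency.types false

universe u

open CategoryTheory CategoryTheory.Limits AlgebraicGeometry TensorProduct IsLocalRing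

namespace Groth.Agent.FlatUnibr

/-- Localizations at a prime as modules. -/
theorem flat_localizedModule_iff {A B : Type u} [CommRing A] [CommRing B] [Algebra A B] (P : Ideal B) [P.IsPrime] :
    Module.Flat A (LocalizedModule P.primeCompl B) ↔ Module.Flat A (Localization.AtPrime P) :=
  ⟨fun _ => Module.Flat.of_linearEquiv
      ((IsLocalizedModule.iso P.primeCompl (Algebra.linearMap B (Localization.AtPrime P))).restrictScalars A).symm,
    fun _ => Module.Flat.of_linearEquiv
      ((IsLocalizedModule.iso P.primeCompl (Algebra.linearMap B (Localization.AtPrime P))).restrictScalars A)⟩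

theorem flat_stalkMap_of_localizedModule {V T : Type u} [CommRing V] [CommRing T] [Algebra V T] (P : PrimeSpectrum T)
    (h : Module.Flat V (LocalizedModule P.asIdeal.primeCompl T)) :
    ((Spec.map (CommRingCat.ofHom (algebraMap V T))).stalkMap P).hom.Flat := by
  have e : (CommRingCat.ofHom (algebraMap V T)).hom.toAlgebra = ‹Algebra V T› := Algebra.algebra_ext _ _ fun _ => rfl
  rw [← e] at h
  exact (FlatLocus.stalkMap_flat_SpecMap (CommRingCat.ofHom (algebraMap V T)) P).2 h

/-- Flatness at a prime as flatness of the stalk map. -/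
theorem flat_atPrime_iff {A B : Type u} [CommRing A] [CommRing B] [Algebra A B] (P : PrimeSpectrum B) :
    Module.Flat A (Localization.AtPrime P.asIdeal) ↔
      ((Spec.map (CommRingCat.ofHom (algebraMap A B))).stalkMap P).hom.Flat :=
  ⟨fun h => flat_stalkMap_of_localizedModule P ((flat_localizedModule_iff P.asIdeal).2 h),
    fun h => (flat_localizedModule_iff P.asIdeal).1 (FlatDvrVC5.flat_localizedModule P h)⟩

/-- The Noetherian criterion. -/
theorem flat_of_dominating {R S B : Type u} [CommRing R] [IsNoetherianRing R] [CommRing S] [CommRing B]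
    [Algebra R S] [Algebra R B] [Algebra.FinitePresentation R B] (p : Ideal R) [p.IsPrime] (q : Ideal S) [q.IsPrime]
    [q.LiesOver p] (P : Ideal B) [P.IsPrime] [P.LiesOver p]
    (htop : ∀ N : ℕ, ∃ n : ℕ, (maximalIdeal (Localization.AtPrime q) ^ n).comap
      (Localization.localRingHom p q (algebraMap R S) Ideal.LiesOver.over) ≤ maximalIdeal (Localization.AtPrime p) ^ N)
    (H : ∀ Q : PrimeSpectrum (S ⊗[R] B),
      Q.asIdeal.comap (Algebra.TensorProduct.includeLeftRingHom : S →+* S ⊗[R] B) = q →
      Q.asIdeal.comap (Algebra.TensorProduct.includeRight : B →ₐ[R] S ⊗[R] B).toRingHom = P →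
      Module.Flat S (Localization.AtPrime Q.asIdeal)) :
    Module.Flat R (Localization.AtPrime P) := by
  let x : Spec (CommRingCat.of B) := (⟨P, inferInstance⟩ : PrimeSpectrum B)
  let f := Spec.map (CommRingCat.ofHom (algebraMap R B))
  haveI : IsLocallyNoetherian (Spec (CommRingCat.of R)) := inferInstance
  haveI : LocallyOfFinitePresentation f :=
    (HasRingHomProperty.Spec_iff (P := @LocallyOfFinitePresentation)).2
      (RingHom.finitePresentation_algebraMap.2 inferInstance)
  haveI : IsLocallyNoetherian (Spec (CommRingCat.of B)) := LocallyOfFiniteType.isLocallyNoetherian f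
  rw [flat_atPrime_iff (⟨P, inferInstance⟩ : PrimeSpectrum B), ← FibFlatMod.isFlatOverAt_structure_iff]
  have hfx : f x = (⟨p, inferInstance⟩ : PrimeSpectrum R) :=
    PrimeSpectrum.ext (Ideal.LiesOver.over (P := P) (p := p)).symm
  let i : Localization.AtPrime p →+* Localization.AtPrime q :=
    Localization.localRingHom p q (algebraMap R S) Ideal.LiesOver.over
  letI : Algebra R ((Spec (CommRingCat.of R)).presheaf.stalk (f x)) :=
    StructureSheaf.stalkAlgebra R (f x : PrimeSpectrum R)
  have hp' : (f x : PrimeSpectrum R).asIdeal = p := congrArg PrimeSpectrum.asIdeal hfx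
  haveI hl : IsLocalization p.primeCompl ((Spec (CommRingCat.of R)).presheaf.stalk (f x)) := by
    have := StructureSheaf.IsLocalization.to_stalk R (f x : PrimeSpectrum R)
    have e : (f x : PrimeSpectrum R).asIdeal.primeCompl = p.primeCompl := by
      ext r; simp only [Ideal.mem_primeCompl_iff, hp']
    rw [← e]; exact this
  let ε : (Spec (CommRingCat.of R)).presheaf.stalk (f x) ≃ₐ[R] Localization.AtPrime p :=
    IsLocalization.algEquiv p.primeCompl _ _
  let φ : (Spec (CommRingCat.of R)).presheaf.stalk (f x) →+* Localization.AtPrime q := i.comp ε.toRingEquiv.toRingHom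
  haveI : IsLocalHom ε.toRingEquiv.toRingHom := ⟨fun a ha => (isUnit_map_iff ε a).1 ha⟩
  haveI : IsLocalHom φ := RingHom.isLocalHom_comp _ _
  have hεm : (maximalIdeal (Localization.AtPrime p)).comap ε.toRingEquiv.toRingHom =
      maximalIdeal ((Spec (CommRingCat.of R)).presheaf.stalk (f x)) :=
    IsLocalRing.eq_maximalIdeal (Ideal.comap_isMaximal_of_surjective _ ε.surjective)
  have hφ : (Spec.map (CommRingCat.ofHom φ) ≫ (Spec (CommRingCat.of R)).fromSpecStalk (f x)) =
      Spec.map (CommRingCat.ofHom (algebraMap S (Localization.AtPrime q))) ≫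
        Spec.map (CommRingCat.ofHom (algebraMap R S)) := by
    rw [Spec.fromSpecStalk_eq', ← Spec.map_comp, ← Spec.map_comp]
    refine congrArg Spec.map (CommRingCat.hom_ext (RingHom.ext fun r => ?_))
    show i (ε (algebraMap R ((Spec (CommRingCat.of R)).presheaf.stalk (f x)) r)) = _
    rw [ε.commutes]
    exact Localization.localRingHom_to_map _ _ _ Ideal.LiesOver.over r
  haveI : Coh.IsQCoh (Coh.structureModule (Spec (CommRingCat.of B))) := QCoh.isQCoh_structureModule
  refine GrFlat5.flatAt_of_local_family f _ (QCoh.isCoh_iff_isFP.2 AssDimLoci.isFP_structureModule) x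
    (fun _ : PUnit.{u + 1} => Localization.AtPrime q) (fun _ => φ) (fun N => ?_) fun _ x' h₁ h₂ => ?_
  · obtain ⟨n, hn⟩ := htop N
    refine ⟨{(PUnit.unit, n)}, fun a ha => ?_⟩
    rw [Finset.iInf_singleton] at ha
    have h1 : ε a ∈ maximalIdeal (Localization.AtPrime p) ^ N := hn ha
    have h2 : (maximalIdeal (Localization.AtPrime p)).map ε.symm.toRingEquiv.toRingHom ≤
        maximalIdeal ((Spec (CommRingCat.of R)).presheaf.stalk (f x)) := by
      rw [← hεm, Ideal.map_le_iff_le_comap]
      intro b hb
      simpa using hb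
    have h3 := Ideal.mem_map_of_mem ε.symm.toRingEquiv.toRingHom h1
    rw [Ideal.map_pow] at h3
    have h4 := Ideal.pow_right_mono h2 N h3
    simpa using h4
  refine GrFlat5.isFlatOverAt_baseChange_comp f (Spec.map (CommRingCat.ofHom (algebraMap R S))) _
    (Spec.map (CommRingCat.ofHom (algebraMap S (Localization.AtPrime q)))) hφ.symm _ x (closedPoint _) x' h₁ h₂
    fun w hw₁ hw₂ => ?_
  haveI : IsIso (SheafOfModules.pullbackObjUnitToUnit
      (pullback.fst f (Spec.map (CommRingCat.ofHom (algebraMap R S)))).toRingCatSheafHom) := inferInstance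
  let θ : (Scheme.Modules.pullback (pullback.fst f (Spec.map (CommRingCat.ofHom (algebraMap R S))))).obj
      (Coh.structureModule _) ≅ Coh.structureModule _ :=
    asIso (SheafOfModules.pullbackObjUnitToUnit
      (pullback.fst f (Spec.map (CommRingCat.ofHom (algebraMap R S)))).toRingCatSheafHom)
  refine GrFlat5.isFlatOverAt_of_iso _ θ.symm w ((FibFlatMod.isFlatOverAt_structure_iff _ w).2 ?_)
  let sq := (FlatDvrVC5.isPullback_tensor (A := CommRingCat.of R) (S := CommRingCat.of B) S
    (CommRingCat.ofHom (algebraMap R B)) rfl).flip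
  let Q : PrimeSpectrum (S ⊗[R] B) := sq.isoPullback.inv w
  have hq : sq.isoPullback.hom Q = w := by
    show (sq.isoPullback.inv ≫ sq.isoPullback.hom) w = w
    rw [Iso.inv_hom_id]; rfl
  have hQl : Q.asIdeal.comap (Algebra.TensorProduct.includeLeftRingHom : S →+* S ⊗[R] B) = q := by
    have e : Spec.map (CommRingCat.ofHom (Algebra.TensorProduct.includeLeftRingHom : S →+* S ⊗[R] B)) Q =
        pullback.snd f _ w := by
      rw [← sq.isoPullback_inv_snd]; rfl
    rw [hw₂] at e
    refine (congrArg PrimeSpectrum.asIdeal e).trans ?_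
    exact IsLocalization.AtPrime.under_maximalIdeal _ q
  have hQr : Q.asIdeal.comap (Algebra.TensorProduct.includeRight : B →ₐ[R] S ⊗[R] B).toRingHom = P := by
    have e : Spec.map (CommRingCat.ofHom (Algebra.TensorProduct.includeRight : B →ₐ[R] S ⊗[R] B).toRingHom) Q =
        pullback.fst f _ w := by
      rw [← sq.isoPullback_inv_fst]; rfl
    rw [hw₁] at e
    exact congrArg PrimeSpectrum.asIdeal e
  have h := (flat_atPrime_iff Q).1 (H Q hQl hQr)
  refine FlatDvrVC5.flat_stalkMap_of_comp sq.isoPullback.inv _ _ ?_ w h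
  exact sq.isoPullback_inv_snd

/-- A separably closed residue field at the image makes the residue extension primary. -/
theorem prim_of_isSepClosed {X Y : Scheme.{u}} (f : X ⟶ Y) (x : X) (h : IsSepClosed (Y.residueField (f x))) :
    GrFlat5.Prim f x := by
  letI := (f.residueFieldMap x).hom.toAlgebra
  intro a ha
  haveI := h
  have h1 : (minpoly (Y.residueField (f x)) a).degree = 1 :=
    IsSepClosed.degree_eq_one_of_irreducible _ (minpoly.irreducible ha.isIntegral) ha
  exact minpoly.mem_range_of_degree_eq_one _ a h1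

/-- Residue fields of an affine scheme. -/
theorem isSepClosed_residueField {R : Type u} [CommRing R] (p : Ideal R) [p.IsPrime] (y : Spec (CommRingCat.of R))
    (hy : (y : PrimeSpectrum R).asIdeal = p) (h : IsSepClosed p.ResidueField) :
    IsSepClosed ((Spec (CommRingCat.of R)).residueField y) := by
  subst hy
  haveI := h
  exact Hensel.isSepClosed_of_ringEquiv (Scheme.Spec.residueFieldIso (CommRingCat.of R) y).symm.commRingCatIsoToRingEquiv

/-- A point with flat structure map pulls back along a base change to a flat point. -/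
theorem exists_flat_point {X Y T T' : Scheme.{u}} (f : X ⟶ Y) (g : T ⟶ Y) (g₂ : T' ⟶ Y) (j : T' ⟶ T)
    (hj : j ≫ g = g₂) (x : X) (t : T') (w : ↥(pullback f g)) (hw₁ : pullback.fst f g w = x)
    (hw₂ : pullback.snd f g w = j t) (hflat : ((pullback.snd f g).stalkMap w).hom.Flat) :
    ∃ x' : ↥(pullback f g₂), pullback.fst f g₂ x' = x ∧ pullback.snd f g₂ x' = t ∧
      FlatMod.IsFlatOverAt (pullback.snd f g₂)
        ((Scheme.Modules.pullback (pullback.fst f g₂)).obj (Coh.structureModule X)) x' := by
  let q : pullback f g₂ ⟶ pullback f g :=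
    pullback.lift (pullback.fst f g₂) (pullback.snd f g₂ ≫ j) (by rw [Category.assoc, hj, pullback.condition])
  have hc : IsPullback q (pullback.snd f g₂) (pullback.snd f g) j :=
    IsPullback.of_right (by rw [pullback.lift_fst, hj]; exact IsPullback.of_hasPullback f g₂) (pullback.lift_snd _ _ _)
      (IsPullback.of_hasPullback f g)
  obtain ⟨v, hv₁, hv₂⟩ := Scheme.Pullback.exists_preimage_pullback (f := pullback.snd f g) (g := j) w t hw₂
  refine ⟨hc.isoPullback.inv v, ?_, ?_, ?_⟩
  · have e : (hc.isoPullback.inv ≫ q ≫ pullback.fst f g) v = x := by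
      rw [← Category.assoc, hc.isoPullback_inv_fst, Scheme.Hom.comp_apply, hv₁, hw₁]
    rw [pullback.lift_fst] at e
    exact e
  · rw [← Scheme.Hom.comp_apply, hc.isoPullback_inv_snd, hv₂]
  · have hq : q (hc.isoPullback.inv v) = w := by
      rw [← Scheme.Hom.comp_apply, hc.isoPullback_inv_fst, hv₁]
    haveI : IsIso (SheafOfModules.pullbackObjUnitToUnit (pullback.fst f g).toRingCatSheafHom) := inferInstance
    let θ : (Scheme.Modules.pullback (pullback.fst f g)).obj (Coh.structureModule X) ≅ Coh.structureModule _ :=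
      asIso (SheafOfModules.pullbackObjUnitToUnit (pullback.fst f g).toRingCatSheafHom)
    have h1 : FlatMod.IsFlatOverAt (pullback.snd f g)
        ((Scheme.Modules.pullback (pullback.fst f g)).obj (Coh.structureModule X)) w :=
      GrFlat5.isFlatOverAt_of_iso _ θ.symm w ((FibFlatMod.isFlatOverAt_structure_iff _ w).2 hflat)
    refine GrFlat5.isFlatOverAt_of_iso _ ?_ _
      (MorLib.FlatBC.isFlatOverAt_baseChange _ _ q j hc _ _ (hq.symm ▸ h1))
    exact (Scheme.Modules.pullbackComp q (pullback.fst f g)).app _ ≪≫
      (Scheme.Modules.pullbackCongr (pullback.lift_fst _ _ _ : q ≫ pullback.fst f g = _)).app _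

/-- The Noetherian criterion for a primary residue extension: one point suffices. -/
theorem flat_of_dominating_primary {R S B : Type u} [CommRing R] [IsNoetherianRing R] [CommRing S] [CommRing B]
    [Algebra R S] [Algebra R B] [Algebra.FinitePresentation R B] (p : Ideal R) [p.IsPrime] (q : Ideal S) [q.IsPrime]
    [q.LiesOver p] (P : Ideal B) [P.IsPrime] [P.LiesOver p]
    (htop : ∀ N : ℕ, ∃ n : ℕ, (maximalIdeal (Localization.AtPrime q) ^ n).comap
      (Localization.localRingHom p q (algebraMap R S) Ideal.LiesOver.over) ≤ maximalIdeal (Localization.AtPrime p) ^ N)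
    (hk : IsSepClosed p.ResidueField) (Q : PrimeSpectrum (S ⊗[R] B))
    (hQl : Q.asIdeal.comap (Algebra.TensorProduct.includeLeftRingHom : S →+* S ⊗[R] B) = q)
    (hQr : Q.asIdeal.comap (Algebra.TensorProduct.includeRight : B →ₐ[R] S ⊗[R] B).toRingHom = P)
    (hQ : Module.Flat S (Localization.AtPrime Q.asIdeal)) :
    Module.Flat R (Localization.AtPrime P) := by
  let x : Spec (CommRingCat.of B) := (⟨P, inferInstance⟩ : PrimeSpectrum B)
  let f := Spec.map (CommRingCat.ofHom (algebraMap R B))
  haveI : IsLocallyNoetherian (Spec (CommRingCat.of R)) := inferInstance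
  haveI : LocallyOfFinitePresentation f :=
    (HasRingHomProperty.Spec_iff (P := @LocallyOfFinitePresentation)).2
      (RingHom.finitePresentation_algebraMap.2 inferInstance)
  haveI : IsLocallyNoetherian (Spec (CommRingCat.of B)) := LocallyOfFiniteType.isLocallyNoetherian f
  rw [flat_atPrime_iff (⟨P, inferInstance⟩ : PrimeSpectrum B), ← FibFlatMod.isFlatOverAt_structure_iff]
  have hfx : f x = (⟨p, inferInstance⟩ : PrimeSpectrum R) :=
    PrimeSpectrum.ext (Ideal.LiesOver.over (P := P) (p := p)).symm
  let i : Localization.AtPrime p →+* Localization.AtPrime q :=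
    Localization.localRingHom p q (algebraMap R S) Ideal.LiesOver.over
  letI : Algebra R ((Spec (CommRingCat.of R)).presheaf.stalk (f x)) :=
    StructureSheaf.stalkAlgebra R (f x : PrimeSpectrum R)
  have hp' : (f x : PrimeSpectrum R).asIdeal = p := congrArg PrimeSpectrum.asIdeal hfx
  haveI hl : IsLocalization p.primeCompl ((Spec (CommRingCat.of R)).presheaf.stalk (f x)) := by
    have := StructureSheaf.IsLocalization.to_stalk R (f x : PrimeSpectrum R)
    have e : (f x : PrimeSpectrum R).asIdeal.primeCompl = p.primeCompl := by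
      ext r; simp only [Ideal.mem_primeCompl_iff, hp']
    rw [← e]; exact this
  let ε : (Spec (CommRingCat.of R)).presheaf.stalk (f x) ≃ₐ[R] Localization.AtPrime p :=
    IsLocalization.algEquiv p.primeCompl _ _
  let φ : (Spec (CommRingCat.of R)).presheaf.stalk (f x) →+* Localization.AtPrime q := i.comp ε.toRingEquiv.toRingHom
  haveI : IsLocalHom ε.toRingEquiv.toRingHom := ⟨fun a ha => (isUnit_map_iff ε a).1 ha⟩
  haveI : IsLocalHom φ := RingHom.isLocalHom_comp _ _
  have hεm : (maximalIdeal (Localization.AtPrime p)).comap ε.toRingEquiv.toRingHom =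
      maximalIdeal ((Spec (CommRingCat.of R)).presheaf.stalk (f x)) :=
    IsLocalRing.eq_maximalIdeal (Ideal.comap_isMaximal_of_surjective _ ε.surjective)
  have hφ : (Spec.map (CommRingCat.ofHom φ) ≫ (Spec (CommRingCat.of R)).fromSpecStalk (f x)) =
      Spec.map (CommRingCat.ofHom (algebraMap S (Localization.AtPrime q))) ≫
        Spec.map (CommRingCat.ofHom (algebraMap R S)) := by
    rw [Spec.fromSpecStalk_eq', ← Spec.map_comp, ← Spec.map_comp]
    refine congrArg Spec.map (CommRingCat.hom_ext (RingHom.ext fun r => ?_))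
    show i (ε (algebraMap R ((Spec (CommRingCat.of R)).presheaf.stalk (f x)) r)) = _
    rw [ε.commutes]
    exact Localization.localRingHom_to_map _ _ _ Ideal.LiesOver.over r
  haveI : Coh.IsQCoh (Coh.structureModule (Spec (CommRingCat.of B))) := QCoh.isQCoh_structureModule
  refine GrFlat5.flatAt_of_local_family_primary f _ (QCoh.isCoh_iff_isFP.2 AssDimLoci.isFP_structureModule) x
    (fun _ : PUnit.{u + 1} => Localization.AtPrime q) (fun _ => φ) (prim_of_isSepClosed f x ?_) (fun N => ?_) fun _ => ?_
  · exact isSepClosed_residueField p (f x) hp' hk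
  · obtain ⟨n, hn⟩ := htop N
    refine ⟨{(PUnit.unit, n)}, fun a ha => ?_⟩
    rw [Finset.iInf_singleton] at ha
    have h1 : ε a ∈ maximalIdeal (Localization.AtPrime p) ^ N := hn ha
    have h2 : (maximalIdeal (Localization.AtPrime p)).map ε.symm.toRingEquiv.toRingHom ≤
        maximalIdeal ((Spec (CommRingCat.of R)).presheaf.stalk (f x)) := by
      rw [← hεm, Ideal.map_le_iff_le_comap]
      intro b hb
      simpa using hb
    have h3 := Ideal.mem_map_of_mem ε.symm.toRingEquiv.toRingHom h1
    rw [Ideal.map_pow] at h3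
    have h4 := Ideal.pow_right_mono h2 N h3
    simpa using h4
  have sqS : IsPullback
      (Spec.map (CommRingCat.ofHom (Algebra.TensorProduct.includeRight : B →ₐ[R] S ⊗[R] B).toRingHom))
      (Spec.map (CommRingCat.ofHom (Algebra.TensorProduct.includeLeftRingHom : S →+* S ⊗[R] B))) f
      (Spec.map (CommRingCat.ofHom (algebraMap R S))) :=
    (FlatDvrVC5.isPullback_tensor (A := CommRingCat.of R) (S := CommRingCat.of B) S
      (CommRingCat.ofHom (algebraMap R B)) rfl).flip
  let w : ↥(pullback f (Spec.map (CommRingCat.ofHom (algebraMap R S)))) := sqS.isoPullback.hom Q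
  have hw₁ : pullback.fst f _ w = x := by
    show (sqS.isoPullback.hom ≫ _) Q = x
    rw [sqS.isoPullback_hom_fst]
    exact PrimeSpectrum.ext hQr
  have hw₂ : pullback.snd f _ w = (Spec.map (CommRingCat.ofHom (algebraMap S (Localization.AtPrime q)))) (closedPoint _) := by
    show (sqS.isoPullback.hom ≫ _) Q = _
    rw [sqS.isoPullback_hom_snd]
    exact PrimeSpectrum.ext (hQl.trans (IsLocalization.AtPrime.under_maximalIdeal _ q).symm)
  have hwflat : ((pullback.snd f (Spec.map (CommRingCat.ofHom (algebraMap R S)))).stalkMap w).hom.Flat := by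
    refine FlatDvrVC5.flat_stalkMap_of_comp sqS.isoPullback.inv _ _ sqS.isoPullback_inv_snd w ?_
    have e : sqS.isoPullback.inv w = Q := by
      show (sqS.isoPullback.hom ≫ sqS.isoPullback.inv) Q = Q
      rw [Iso.hom_inv_id]; rfl
    rw [e]
    exact (flat_atPrime_iff Q).1 hQ
  exact exists_flat_point f _ _ (Spec.map (CommRingCat.ofHom (algebraMap S (Localization.AtPrime q)))) hφ.symm x
    (closedPoint _) w hw₁ hw₂ hwflat

end Groth.Agent.FlatUnibr
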