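import Groth.Agent.FormCat.Unibranch
import Groth.Agent.S2644
import Groth.Agent.FlatLoc6.GeomComp
import Groth.Agent.CplFib6.Excellent
import Groth.Agent.S0600
import Groth.Agent.CompleteNagata.Global
import Groth.Agent.CAlgOdd.NagataFT.Basic
import Groth.Agent.S0566

/-!
# Finitely generated normal models inside a normal domain
-/

set_option autoImplicit false
set_option linter.style.haveILetI false

universe u

open IsLocalRing

namespace Groth.Agent.FlatUnibr

/-- The integers are excellent, in any universe. -/
theorem isExcellent_uliftInt : EGA4.IsExcellent (ULift.{u} ℤ) := by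
  let e := (ULift.ringEquiv.{0, u} (R := ℤ))
  haveI : IsPrincipalIdealRing (ULift.{u} ℤ) :=
    IsPrincipalIdealRing.of_surjective e.symm.toRingHom e.symm.surjective
  haveI : IsDomain (ULift.{u} ℤ) := Function.Injective.isDomain e.toRingHom e.injective
  haveI : CharZero (ULift.{u} ℤ) := charZero_of_injective_ringHom (f := e.symm.toRingHom) e.symm.injective
  exact CplFib6.isExcellent_of_dedekind _

theorem isNagata_uliftInt : CAlg.IsNagata (ULift.{u} ℤ) :=
  CompleteNagata.isNagata_of_isQuasiExcellent _
    ⟨isExcellent_uliftInt.1, isExcellent_uliftInt.2.2.1, isExcellent_uliftInt.2.2.2⟩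

/-- Localizations of normal G-rings are analytically irreducible. -/
theorem isDomain_cpl_atPrime {R : Type u} [CommRing R] [IsDomain R] [IsIntegrallyClosed R]
    (hR : CAlg.IsGRing R) (p : Ideal R) [p.IsPrime] : IsDomain (EGA4.Cpl (Localization.AtPrime p)) := by
  haveI := hR.1
  haveI : IsNoetherianRing (Localization.AtPrime p) := IsLocalization.isNoetherianRing p.primeCompl _ hR.1
  haveI : IsDomain (Localization.AtPrime p) :=
    IsLocalization.isDomain_localization p.primeCompl_le_nonZeroDivisors
  haveI : IsIntegrallyClosed (Localization.AtPrime p) :=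
    isIntegrallyClosed_of_isLocalization _ p.primeCompl p.primeCompl_le_nonZeroDivisors
  have hff : EGA4.HasGeomNormalFormalFibres (Localization.AtPrime p) :=
    (FlatLoc6.isNormalHom_of_isRegularHom _ (EGA4.Cpl (Localization.AtPrime p)) (hR.2 p)).2
  have hn : EGA4.IsNormalRing (Localization.AtPrime p) := fun q _ =>
    ⟨IsLocalization.isDomain_localization q.primeCompl_le_nonZeroDivisors,
      isIntegrallyClosed_of_isLocalization _ q.primeCompl q.primeCompl_le_nonZeroDivisors⟩
  haveI := FlatLoc6.isLocalRing_cpl (Localization.AtPrime p)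
  exact FormCat.isDomain_of_isNormalRing_local _ ((S2644.result _ hff).1 hn)

/-- The normalization of a subring of a normal domain maps into it. -/
theorem exists_hom_integralClosure (R₁ A K : Type u) [CommRing R₁] [IsDomain R₁] [CommRing A] [IsDomain A]
    [IsIntegrallyClosed A] [Algebra R₁ A] [FaithfulSMul R₁ A] [Field K] [Algebra R₁ K] [IsFractionRing R₁ K] :
    ∃ i : integralClosure R₁ K →+* A, Function.Injective i ∧ ∀ r, i (algebraMap R₁ _ r) = algebraMap R₁ A r := by
  let F := FractionRing A
  have hinjA := IsFractionRing.injective A F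
  have hinj : Function.Injective ((algebraMap A F).comp (algebraMap R₁ A)) :=
    hinjA.comp (FaithfulSMul.algebraMap_injective R₁ A)
  let j : K →+* F := IsFractionRing.lift hinj
  have hj : ∀ r, j (algebraMap R₁ K r) = algebraMap A F (algebraMap R₁ A r) := fun r =>
    IsFractionRing.lift_algebraMap hinj r
  let ja : K →ₐ[R₁] F := { j with commutes' := fun r => (hj r).trans (IsScalarTower.algebraMap_apply R₁ A F r).symm }
  have hmem : ∀ z : integralClosure R₁ K, ∃ a : A, algebraMap A F a = j z.1 := fun z =>
    IsIntegrallyClosed.isIntegral_iff.1 ((IsIntegral.map ja z.2).tower_top (A := A))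
  choose c hc using hmem
  let i : integralClosure R₁ K →+* A :=
    { toFun := c
      map_one' := hinjA (((hc 1).trans (RingHom.map_one j)).trans (RingHom.map_one _).symm)
      map_mul' := fun x y => hinjA (by rw [RingHom.map_mul, hc, hc, hc]; exact RingHom.map_mul j _ _)
      map_zero' := hinjA (((hc 0).trans (RingHom.map_zero j)).trans (RingHom.map_zero _).symm)
      map_add' := fun x y => hinjA (by rw [RingHom.map_add, hc, hc, hc]; exact RingHom.map_add j _ _) }
  refine ⟨i, fun x y h => Subtype.ext (j.injective ?_), fun r => hinjA ((hc _).trans (hj r))⟩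
  rw [← hc, ← hc]
  exact congrArg _ h

/-- A finitely generated subring of a normal domain lies in a finitely generated normal one. -/
theorem exists_normal_of_finiteType (R₁ : Type u) [CommRing R₁] [IsDomain R₁] [Algebra (ULift.{u} ℤ) R₁]
    [Algebra.FiniteType (ULift.{u} ℤ) R₁] (A : Type u) [CommRing A] [IsDomain A] [IsIntegrallyClosed A]
    [Algebra R₁ A] [FaithfulSMul R₁ A] :
    ∃ (R : Type u) (_ : CommRing R) (_ : IsDomain R) (_ : IsIntegrallyClosed R) (_ : Algebra R A),
      FaithfulSMul R A ∧ CAlg.IsGRing R ∧ Set.range (algebraMap R₁ A) ⊆ Set.range (algebraMap R A) := by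
  have hN : CAlg.IsNagata R₁ := S0566.result _ isNagata_uliftInt R₁
  haveI := hN.1
  let K := FractionRing R₁
  have h1 : CAlg.IsN1 R₁ := CAlgOdd.NagataFT.isN1_of_ringEquiv
    (RingEquiv.ofBijective (Ideal.Quotient.mk (⊥ : Ideal R₁))
      ⟨RingHom.injective_iff_ker_eq_bot _ |>.2 (Ideal.mk_ker), Ideal.Quotient.mk_surjective⟩).symm
    (hN.2 ⊥ (FractionRing (R₁ ⧸ (⊥ : Ideal R₁))) inferInstance)
  haveI : Module.Finite R₁ (integralClosure R₁ K) := h1
  let N := integralClosure R₁ K
  obtain ⟨i, hi, hir⟩ := exists_hom_integralClosure R₁ A K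
  letI : Algebra N A := i.toAlgebra
  haveI : IsFractionRing N K := integralClosure.isFractionRing_of_finite_extension K K
  haveI : IsIntegrallyClosed N := integralClosure.isIntegrallyClosedOfFiniteExtension K
  have hft : ((algebraMap R₁ N).comp (algebraMap (ULift.{u} ℤ) R₁)).FiniteType :=
    ((RingHom.finite_algebraMap.2 (inferInstance : Module.Finite R₁ N)).finiteType).comp
      (RingHom.finiteType_algebraMap.2 inferInstance)
  letI : Algebra (ULift.{u} ℤ) N := ((algebraMap R₁ N).comp (algebraMap (ULift.{u} ℤ) R₁)).toAlgebra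
  haveI : Algebra.FiniteType (ULift.{u} ℤ) N := hft
  refine ⟨N, inferInstance, inferInstance, inferInstance, inferInstance,
    (faithfulSMul_iff_algebraMap_injective N A).2 hi,
    CplFib6.isGRing_of_finiteType isExcellent_uliftInt.2.2.1 N, ?_⟩
  rintro _ ⟨r, rfl⟩
  exact ⟨algebraMap R₁ N r, hir r⟩

/-- A finite set of a normal domain lies in a normal finitely generated ring. -/
theorem exists_normal_model {A : Type u} [CommRing A] [IsDomain A] [IsIntegrallyClosed A] (s : Finset A) :
    ∃ (R : Type u) (_ : CommRing R) (_ : IsDomain R) (_ : IsIntegrallyClosed R) (_ : Algebra R A),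
      FaithfulSMul R A ∧ CAlg.IsGRing R ∧ (∀ a ∈ s, a ∈ Set.range (algebraMap R A)) := by
  letI : Algebra (ULift.{u} ℤ) A := ((Int.castRingHom A).comp ULift.ringEquiv.toRingHom).toAlgebra
  let R₁ := Algebra.adjoin (ULift.{u} ℤ) (s : Set A)
  haveI : Algebra.FiniteType (ULift.{u} ℤ) R₁ :=
    (Subalgebra.fg_iff_finiteType R₁).mp (Subalgebra.fg_adjoin_finset s)
  haveI : FaithfulSMul R₁ A := (faithfulSMul_iff_algebraMap_injective R₁ A).2 Subtype.val_injective
  obtain ⟨R, i1, i2, i3, i4, h1, h2, h3⟩ := exists_normal_of_finiteType R₁ A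
  exact ⟨R, i1, i2, i3, i4, h1, h2, fun a ha => h3 ⟨⟨a, Algebra.subset_adjoin ha⟩, rfl⟩⟩

end Groth.Agent.FlatUnibr
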