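import Groth.Agent.FlatModel.Open
import Groth.Agent.FibFlatMod.StageDescend
import Mathlib

/-!
# Flatness at primes under base change
-/

set_option autoImplicit false
set_option linter.style.haveILetI false

universe u

open TensorProduct

namespace Groth.Agent.FlatUnibr

/-- Flatness of a localization passes to base changes, at the primes which avoid the submonoid. -/
theorem flat_atPrime_of_pushout {A A' B B' : Type u} [CommRing A] [CommRing A'] [CommRing B] [CommRing B']
    [Algebra A A'] [Algebra A B] [Algebra A B'] [Algebra A' B'] [Algebra B B'] [IsScalarTower A A' B']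
    [IsScalarTower A B B'] [Algebra.IsPushout A A' B B'] (M : Submonoid B) (h : Module.Flat A (Localization M))
    (Q : Ideal B') [Q.IsPrime] (hQ : ∀ m ∈ M, algebraMap B B' m ∉ Q) :
    Module.Flat A' (Localization.AtPrime Q) := by
  let L := Localization M
  let M' := Algebra.algebraMapSubmonoid B' M
  let L' := Localization M'
  haveI : IsLocalization (Submonoid.map (algebraMap B B') M) L' := inferInstanceAs (IsLocalization M' L')
  letI : Algebra L L' := localizationAlgebra M B'
  haveI : IsScalarTower B L L' := .of_algebraMap_eq fun b =>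
    (IsLocalization.map_eq (M.le_comap_map (f := algebraMap B B')) b).symm
  haveI : Algebra.IsPushout B B' L L' := Algebra.isPushout_of_isLocalization M L B' L'
  haveI : IsScalarTower A B L' := .of_algebraMap_eq fun a => by
    rw [IsScalarTower.algebraMap_apply A B' L', IsScalarTower.algebraMap_apply A B B',
      ← IsScalarTower.algebraMap_apply B B' L']
  haveI : IsScalarTower A L L' := .of_algebraMap_eq fun a => by
    rw [IsScalarTower.algebraMap_apply A B L, ← IsScalarTower.algebraMap_apply B L L',
      ← IsScalarTower.algebraMap_apply A B L']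
  haveI h1 : Algebra.IsPushout A B A' B' := Algebra.IsPushout.symm inferInstance
  haveI h2 : Algebra.IsPushout A A' L L' :=
    ((Algebra.IsPushout.comp_iff (R := A) (S := B) (R' := A') (S' := B') (T := L) (T' := L')).2
      (Algebra.IsPushout.symm inferInstance)).symm
  haveI : Module.Flat A' L' :=
    Module.Flat.of_linearEquiv (Algebra.IsPushout.equiv A A' L L').toLinearEquiv.symm
  have hle : M' ≤ Q.primeCompl := by
    rintro _ ⟨m, hm, rfl⟩
    exact hQ m hm
  letI : Algebra L' (Localization.AtPrime Q) :=
    IsLocalization.localizationAlgebraOfSubmonoidLe L' (Localization.AtPrime Q) M' Q.primeCompl hle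
  haveI : IsScalarTower B' L' (Localization.AtPrime Q) :=
    IsLocalization.localization_isScalarTower_of_submonoid_le L' (Localization.AtPrime Q) M' Q.primeCompl hle
  haveI : IsLocalization (Q.primeCompl.map (algebraMap B' L')) (Localization.AtPrime Q) :=
    IsLocalization.isLocalization_of_submonoid_le L' _ M' Q.primeCompl hle
  haveI : IsScalarTower A' L' (Localization.AtPrime Q) := .of_algebraMap_eq fun a => by
    rw [IsScalarTower.algebraMap_apply A' B' L', ← IsScalarTower.algebraMap_apply B' L' (Localization.AtPrime Q),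
      ← IsScalarTower.algebraMap_apply A' B' (Localization.AtPrime Q)]
  haveI : Module.Flat L' (Localization.AtPrime Q) :=
    IsLocalization.flat _ (Q.primeCompl.map (algebraMap B' L'))
  exact Module.Flat.trans A' L' _

/-- The base changes of an algebra to two stages form a pushout. -/
theorem isPushout_stage (A₀ T S B₀ : Type u) [CommRing A₀] [CommRing T] [CommRing S] [CommRing B₀] [Algebra A₀ T]
    [Algebra A₀ S] [Algebra A₀ B₀] [Algebra T S] [IsScalarTower A₀ T S] :
    ∃ (_ : Algebra (T ⊗[A₀] B₀) (S ⊗[A₀] B₀)) (_ : IsScalarTower T (T ⊗[A₀] B₀) (S ⊗[A₀] B₀)),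
      Algebra.IsPushout T S (T ⊗[A₀] B₀) (S ⊗[A₀] B₀) ∧ ∀ z : T ⊗[A₀] B₀, algebraMap (T ⊗[A₀] B₀) (S ⊗[A₀] B₀) z =
        Algebra.TensorProduct.map (IsScalarTower.toAlgHom A₀ T S) (AlgHom.id A₀ B₀) z := by
  letI : Algebra B₀ (T ⊗[A₀] B₀) := Algebra.TensorProduct.rightAlgebra
  letI : Algebra B₀ (S ⊗[A₀] B₀) := Algebra.TensorProduct.rightAlgebra
  let φ := Algebra.TensorProduct.map (IsScalarTower.toAlgHom A₀ T S) (AlgHom.id A₀ B₀)
  letI : Algebra (T ⊗[A₀] B₀) (S ⊗[A₀] B₀) := φ.toRingHom.toAlgebra
  haveI : IsScalarTower T (T ⊗[A₀] B₀) (S ⊗[A₀] B₀) := .of_algebraMap_eq fun t => by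
    show algebraMap T (S ⊗[A₀] B₀) t = φ (t ⊗ₜ 1)
    simp [φ, IsScalarTower.algebraMap_apply T S (S ⊗[A₀] B₀), Algebra.TensorProduct.algebraMap_apply]
  haveI : IsScalarTower B₀ (T ⊗[A₀] B₀) (S ⊗[A₀] B₀) := .of_algebraMap_eq fun b => by
    show algebraMap B₀ (S ⊗[A₀] B₀) b = φ (1 ⊗ₜ b)
    simp [φ, Algebra.TensorProduct.right_algebraMap_apply]
  haveI : IsScalarTower A₀ (T ⊗[A₀] B₀) (S ⊗[A₀] B₀) := .of_algebraMap_eq fun a => (φ.commutes a).symm
  refine ⟨inferInstance, inferInstance, ?_, fun z => rfl⟩
  exact (Algebra.IsPushout.comp_iff (R := A₀) (S := T) (R' := B₀) (S' := T ⊗[A₀] B₀) (T := S) (T' := S ⊗[A₀] B₀)).1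
    inferInstance

/-- An element of the intersection of the primes of non-flatness cuts out a flat open. -/
theorem exists_flat_away {R S : Type u} [CommRing R] [CommRing S] [Algebra R S] [Algebra.FinitePresentation R S]
    (P : Ideal S) [P.IsPrime] (h : Module.Flat R (Localization.AtPrime P)) :
    ∃ g ∉ P, Module.Flat R (Localization.Away g) := by
  haveI : Module.Flat R (LocalizedModule P.primeCompl S) := Module.Flat.of_linearEquiv
    ((IsLocalizedModule.iso P.primeCompl (Algebra.linearMap S (Localization.AtPrime P))).restrictScalars R)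
  obtain ⟨g, hg, hW⟩ := FlatModel.exists_flat_nhd (R := R) S P inferInstance
  haveI := hW (Submonoid.powers g) (Submonoid.mem_powers g)
  exact ⟨g, hg, Module.Flat.of_linearEquiv
    ((IsLocalizedModule.iso (Submonoid.powers g) (Algebra.linearMap S (Localization.Away g))).restrictScalars R).symm⟩

end Groth.Agent.FlatUnibr
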