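import Groth.Agent.FlatUnibr.Subspace
import Groth.Agent.FlatUnibr.Criterion
import Groth.Agent.FlatUnibr.Transfer
import Groth.Agent.FlatUnibr.Normal

/-!
# Flatness over a normal local domain tested on one dominating ring
-/

set_option autoImplicit false
set_option linter.style.haveILetI false

universe u

open TensorProduct IsLocalRing

namespace Groth.Agent.FlatUnibr

/-- A condition cutting out the points to be tested lies in finitely many elements. -/
theorem exists_test_data {A V B : Type u} [CommRing A] [CommRing V] [IsLocalRing V] [Algebra A V] [CommRing B]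
    [Algebra A B] [Algebra.FinitePresentation A B] (P : Ideal B) [P.IsPrime]
    (H : ∀ Q : Ideal (V ⊗[A] B), ∀ [Q.IsPrime],
      Q.comap (Algebra.TensorProduct.includeLeftRingHom : V →+* V ⊗[A] B) = maximalIdeal V →
      Q.comap (Algebra.TensorProduct.includeRight : B →ₐ[A] V ⊗[A] B).toRingHom = P →
      Module.Flat V (Localization.AtPrime Q)) :
    ∃ (s : B) (F : Finset B), s ∉ P ∧ (∀ b ∈ F, b ∈ P) ∧ ∀ Q : Ideal (V ⊗[A] B), ∀ [Q.IsPrime],
      Q.comap (Algebra.TensorProduct.includeLeftRingHom : V →+* V ⊗[A] B) = maximalIdeal V →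
      (∀ b ∈ F, (1 : V) ⊗ₜ[A] b ∈ Q) → (1 : V) ⊗ₜ[A] s ∉ Q → Module.Flat V (Localization.AtPrime Q) := by
  classical
  let iL : V →+* V ⊗[A] B := Algebra.TensorProduct.includeLeftRingHom
  let iR : B →+* V ⊗[A] B := (Algebra.TensorProduct.includeRight : B →ₐ[A] V ⊗[A] B).toRingHom
  let J : Ideal (V ⊗[A] B) := Ideal.span {g | Module.Flat V (Localization.Away g)}
  let I : Ideal (V ⊗[A] B) := J ⊔ (maximalIdeal V).map iL ⊔ P.map iR
  obtain ⟨s, hsP, hsI⟩ : ∃ s ∉ P, iR s ∈ I := by
    by_contra hne
    push Not at hne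
    have hd : Disjoint (I : Set (V ⊗[A] B)) (P.primeCompl.map iR : Set (V ⊗[A] B)) := by
      rw [Set.disjoint_left]
      rintro _ hx ⟨b, hb, rfl⟩
      exact hne b hb hx
    obtain ⟨Q, hQp, hIQ, hQd⟩ := Ideal.exists_le_prime_disjoint I _ hd
    haveI := hQp
    have hV : Q.comap iL = maximalIdeal V :=
      le_antisymm (IsLocalRing.le_maximalIdeal (Ideal.IsPrime.ne_top inferInstance))
        (Ideal.map_le_iff_le_comap.1 ((le_sup_right.trans le_sup_left).trans hIQ))
    have hP' : Q.comap iR = P := by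
      refine le_antisymm (fun b hb => ?_) (Ideal.map_le_iff_le_comap.1 (le_sup_right.trans hIQ))
      by_contra hbP
      exact Set.disjoint_left.1 hQd hb ⟨b, hbP, rfl⟩
    obtain ⟨g, hg, hflat⟩ := exists_flat_away Q (H Q hV hP')
    exact hg (hIQ (Ideal.mem_sup_left (Ideal.mem_sup_left (Ideal.subset_span hflat))))
  obtain ⟨x, hx, y, hy, hxy⟩ := Submodule.mem_sup.1 hsI
  obtain ⟨T, hT, hyT⟩ := Submodule.mem_span_finite_of_mem_span (R := V ⊗[A] B) (S := iR '' (P : Set B)) hy
  obtain ⟨F, hFP, rfl⟩ := Finset.subset_set_image_iff.1 hT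
  refine ⟨s, F, hsP, fun b hb => hFP hb, fun Q hQp hV hF hs => ?_⟩
  obtain ⟨g, hg, hflat⟩ : ∃ g ∉ Q, Module.Flat V (Localization.Away g) := by
    by_contra hne
    push Not at hne
    refine hs ?_
    have hyQ : y ∈ Q := (Ideal.span_le.2 (by
      intro z hz
      obtain ⟨b, hb, rfl⟩ := Finset.mem_image.1 (Finset.mem_coe.1 hz)
      exact hF b hb)) hyT
    have hxQ : x ∈ Q := (sup_le (Ideal.span_le.2 fun g hg => by
      by_contra h
      exact hne g h hg) (Ideal.map_le_iff_le_comap.2 hV.ge)) hx
    have h := Q.add_mem hxQ hyQ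
    rw [hxy] at h
    exact h
  exact flat_atPrime_of_pushout (A := V) (A' := V) (B := V ⊗[A] B) (B' := V ⊗[A] B) (Submonoid.powers g) hflat Q
    fun m hm h => by
      obtain ⟨n, rfl⟩ := hm
      exact hg (hQp.mem_of_pow_mem n h)

/-- A relation in a base change holds at a finitely generated stage. -/
theorem exists_stage_mem_span {R V B : Type u} [CommRing R] [CommRing V] [Algebra R V] [CommRing B] [Algebra R B]
    (S₀ : Subalgebra R V) (hS₀ : S₀.FG) (W : Finset (S₀ ⊗[R] B)) (z : S₀ ⊗[R] B)
    (h : Algebra.TensorProduct.map S₀.val (AlgHom.id R B) z ∈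
      Ideal.span (Algebra.TensorProduct.map S₀.val (AlgHom.id R B) '' (W : Set (S₀ ⊗[R] B)))) :
    ∃ (S : Subalgebra R V) (hle : S₀ ≤ S), S.FG ∧
      Algebra.TensorProduct.map (Subalgebra.inclusion hle) (AlgHom.id R B) z ∈
        Ideal.span (Algebra.TensorProduct.map (Subalgebra.inclusion hle) (AlgHom.id R B) '' (W : Set (S₀ ⊗[R] B))) := by
  classical
  have hm : ∀ (C D : Subalgebra R V) (φ : C →ₐ[R] D) (u : C ⊗[R] B),
      LinearMap.rTensor B φ.toLinearMap u = Algebra.TensorProduct.map φ (AlgHom.id R B) u := fun C D φ u => by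
    induction u using TensorProduct.induction_on with
    | zero => simp
    | tmul a b => simp
    | add a b ha hb => simp only [map_add, ha, hb]
  have hv : ∀ (C : Subalgebra R V) (u : C ⊗[R] B),
      LinearMap.rTensor B C.val.toLinearMap u = Algebra.TensorProduct.map C.val (AlgHom.id R B) u := fun C u => by
    induction u using TensorProduct.induction_on with
    | zero => simp
    | tmul a b => simp
    | add a b ha hb => simp only [map_add, ha, hb]
  have hc : ∀ (C D : Subalgebra R V) (hCD : C ≤ D) (u : C ⊗[R] B),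
      Algebra.TensorProduct.map D.val (AlgHom.id R B)
        (Algebra.TensorProduct.map (Subalgebra.inclusion hCD) (AlgHom.id R B) u) =
      Algebra.TensorProduct.map C.val (AlgHom.id R B) u := fun C D hCD u => by
    induction u using TensorProduct.induction_on with
    | zero => simp
    | tmul a b => simp
    | add a b ha hb => simp only [map_add, ha, hb]
  have hcc : ∀ (C D E : Subalgebra R V) (hCD : C ≤ D) (hDE : D ≤ E) (u : C ⊗[R] B),
      Algebra.TensorProduct.map (Subalgebra.inclusion hDE) (AlgHom.id R B)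
        (Algebra.TensorProduct.map (Subalgebra.inclusion hCD) (AlgHom.id R B) u) =
      Algebra.TensorProduct.map (Subalgebra.inclusion (hCD.trans hDE)) (AlgHom.id R B) u := fun C D E hCD hDE u => by
    induction u using TensorProduct.induction_on with
    | zero => simp
    | tmul a b => simp
    | add a b ha hb => simp only [map_add, ha, hb]
  obtain ⟨c, hcz⟩ := Submodule.mem_span_image_finset_iff_exists_fun (R := V ⊗[R] B)
    (v := Algebra.TensorProduct.map S₀.val (AlgHom.id R B)) (s := W) |>.1 h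
  choose C hC hCc using fun w : W => TensorProduct.Algebra.exists_of_fg (c w)
  choose d hd using fun w => hCc w
  let S₁ := S₀ ⊔ Finset.univ.sup C
  have hS₁ : S₁.FG := hS₀.sup (Finset.sup_induction Subalgebra.fg_bot (fun a ha b hb => ha.sup hb) fun w _ => hC w)
  have h1 : S₀ ≤ S₁ := le_sup_left
  have h2 : ∀ w, C w ≤ S₁ := fun w => (Finset.le_sup (f := C) (Finset.mem_univ w)).trans le_sup_right
  let u : S₁ ⊗[R] B := ∑ w : W, Algebra.TensorProduct.map (Subalgebra.inclusion (h2 w)) (AlgHom.id R B) (d w) *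
    Algebra.TensorProduct.map (Subalgebra.inclusion h1) (AlgHom.id R B) w.1
  have hu : LinearMap.rTensor B S₁.val.toLinearMap u =
      LinearMap.rTensor B S₁.val.toLinearMap (Algebra.TensorProduct.map (Subalgebra.inclusion h1) (AlgHom.id R B) z) := by
    rw [hv, hv, hc, ← hcz, map_sum]
    refine Finset.sum_congr rfl fun w _ => ?_
    rw [map_mul, hc, hc, ← hv (C w), hd, smul_eq_mul]
  obtain ⟨S, hle, hS, he⟩ := TensorProduct.Algebra.eq_of_fg_of_subtype_eq hS₁ hu
  refine ⟨S, h1.trans hle, hS, ?_⟩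
  rw [hm, hm] at he
  rw [← hcc S₀ S₁ S h1 hle, ← he, map_sum]
  refine Ideal.sum_mem _ fun w _ => ?_
  rw [map_mul, hcc S₀ S₁ S h1 hle]
  exact Ideal.mul_mem_left _ _ (Ideal.subset_span ⟨w.1, w.2, rfl⟩)

end Groth.Agent.FlatUnibr
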