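import Groth.Agent.FlatUnibr.Main
import Groth.Agent.FibFlatMod.StageDescend

/-!
# Flatness over a normal local domain tested on one dominating ring
-/

set_option autoImplicit false
set_option linter.style.haveILetI false

universe u

open TensorProduct IsLocalRing

namespace Groth.Agent.FlatUnibr

/-- A finitely presented algebra over a normal domain, with finitely many of its elements, has a model over a
finitely generated normal subring. -/
theorem exists_normal_descent {A B : Type u} [CommRing A] [IsDomain A] [IsIntegrallyClosed A] [CommRing B] [Algebra A B]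
    [Algebra.FinitePresentation A B] (F : Finset B) :
    ∃ (R : Type u) (_ : CommRing R) (_ : IsDomain R) (_ : IsIntegrallyClosed R) (_ : Algebra R A) (B₀ : Type u)
      (_ : CommRing B₀) (_ : Algebra R B₀) (e : A ⊗[R] B₀ ≃ₐ[A] B),
      FaithfulSMul R A ∧ CAlg.IsGRing R ∧ Algebra.FinitePresentation R B₀ ∧
        ∀ b ∈ F, ∃ b₀ : B₀, e (1 ⊗ₜ b₀) = b := by
  classical
  let P := Algebra.Presentation.ofFinitePresentation A B
  let C : Finset A := P.finite_coeffs.toFinset ∪ F.biUnion fun b => (P.σ b).coeffs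
  obtain ⟨R, i1, i2, i3, i4, hinj, hG, hC⟩ := exists_normal_model C
  letI : Algebra R B := ((algebraMap A B).comp (algebraMap R A)).toAlgebra
  haveI : IsScalarTower R A B := .of_algebraMap_eq fun _ => rfl
  haveI : P.HasCoeffs R := ⟨fun a ha => hC a (Finset.mem_union_left _ (P.finite_coeffs.mem_toFinset.2 ha))⟩
  refine ⟨R, i1, i2, i3, i4, P.ModelOfHasCoeffs R, inferInstance, inferInstance, P.tensorModelOfHasCoeffsEquiv R,
    hinj, hG, inferInstance, fun b hb => ?_⟩
  obtain ⟨p, hp⟩ := (MvPolynomial.mem_range_map_iff_coeffs_subset (f := algebraMap R A) (x := P.σ b)).2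
    fun a ha => hC a (Finset.mem_union_right _ (Finset.mem_biUnion.2 ⟨b, hb, ha⟩))
  refine ⟨Ideal.Quotient.mk _ p, ?_⟩
  rw [Algebra.Presentation.tensorModelOfHasCoeffsEquiv_tmul, map_one, one_mul, ← MvPolynomial.aeval_map_algebraMap A,
    hp, P.aeval_val_σ]

/-- Finitely generated dominating domains induce the topology of a normal G-ring. -/
theorem exists_top_bound {R S : Type u} [CommRing R] [IsDomain R] [IsIntegrallyClosed R] (hR : CAlg.IsGRing R)
    [CommRing S] [IsDomain S] [Algebra R S] [Algebra.FiniteType R S] (hinj : Function.Injective (algebraMap R S))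
    (p : Ideal R) [p.IsPrime] (q : Ideal S) [q.IsPrime] [q.LiesOver p] (N : ℕ) :
    ∃ n : ℕ, (maximalIdeal (Localization.AtPrime q) ^ n).comap
      (Localization.localRingHom p q (algebraMap R S) Ideal.LiesOver.over) ≤ maximalIdeal (Localization.AtPrime p) ^ N := by
  haveI := hR.1
  haveI : IsNoetherianRing (Localization.AtPrime p) := IsLocalization.isNoetherianRing p.primeCompl _ hR.1
  haveI : IsDomain (Localization.AtPrime p) :=
    IsLocalization.isDomain_localization p.primeCompl_le_nonZeroDivisors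
  haveI : IsDomain (Localization.AtPrime q) :=
    IsLocalization.isDomain_localization q.primeCompl_le_nonZeroDivisors
  haveI := isDomain_cpl_atPrime hR p
  let i := Localization.localRingHom p q (algebraMap R S) Ideal.LiesOver.over
  letI : Algebra (Localization.AtPrime p) (Localization.AtPrime q) := i.toAlgebra
  haveI : IsLocalHom (algebraMap (Localization.AtPrime p) (Localization.AtPrime q)) :=
    inferInstanceAs (IsLocalHom i)
  haveI : IsScalarTower R (Localization.AtPrime p) (Localization.AtPrime q) := .of_algebraMap_eq fun r => by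
    show _ = i (algebraMap R (Localization.AtPrime p) r)
    rw [Localization.localRingHom_to_map, IsScalarTower.algebraMap_apply R S (Localization.AtPrime q)]
  haveI : Algebra.EssFiniteType S (Localization.AtPrime q) := Algebra.EssFiniteType.of_isLocalization _ q.primeCompl
  haveI : Algebra.EssFiniteType R (Localization.AtPrime q) := Algebra.EssFiniteType.comp R S _
  haveI : Algebra.EssFiniteType (Localization.AtPrime p) (Localization.AtPrime q) :=
    Algebra.EssFiniteType.of_comp R _ _
  refine exists_comap_pow_le (Localization.AtPrime p) (Localization.AtPrime q) ?_ N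
  rw [injective_iff_map_eq_zero]
  intro x hx
  obtain ⟨⟨r, t⟩, hrt⟩ := IsLocalization.surj p.primeCompl x
  have h1 : algebraMap R (Localization.AtPrime q) r = 0 := by
    rw [IsScalarTower.algebraMap_apply R (Localization.AtPrime p) (Localization.AtPrime q), ← hrt, map_mul, hx, zero_mul]
  rw [IsScalarTower.algebraMap_apply R S (Localization.AtPrime q)] at h1
  have h2 : r = 0 := hinj (((IsLocalization.injective (Localization.AtPrime q) q.primeCompl_le_nonZeroDivisors)
    (h1.trans (map_zero _).symm)).trans (map_zero _).symm)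
  dsimp only at hrt
  rw [h2, map_zero] at hrt
  exact (IsLocalization.map_units (Localization.AtPrime p) t).mul_left_eq_zero.1 hrt

/-- The Noetherian step: finitely generated dominating domains over a normal G-ring. -/
theorem flat_stage {R S B : Type u} [CommRing R] [IsDomain R] [IsIntegrallyClosed R] (hR : CAlg.IsGRing R)
    [CommRing S] [IsDomain S] [Algebra R S] [Algebra.FiniteType R S] (hinj : Function.Injective (algebraMap R S))
    [CommRing B] [Algebra R B] [Algebra.FinitePresentation R B] (p : Ideal R) [p.IsPrime] (q : Ideal S) [q.IsPrime]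
    [q.LiesOver p] (P : Ideal B) [P.IsPrime] [P.LiesOver p]
    (H : ∀ Q : PrimeSpectrum (S ⊗[R] B),
      Q.asIdeal.comap (Algebra.TensorProduct.includeLeftRingHom : S →+* S ⊗[R] B) = q →
      Q.asIdeal.comap (Algebra.TensorProduct.includeRight : B →ₐ[R] S ⊗[R] B).toRingHom = P →
      Module.Flat S (Localization.AtPrime Q.asIdeal)) :
    Module.Flat R (Localization.AtPrime P) := by
  haveI := hR.1
  exact flat_of_dominating p q P (exists_top_bound hR hinj p q) H

attribute [local instance] Algebra.TensorProduct.rightAlgebra in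
open FibFlatMod in
/-- Flatness at the tested points holds already over a finitely generated subring. -/
theorem exists_stage_tested {R V B₀ B : Type u} [CommRing R] [CommRing V] [IsLocalRing V] [Algebra R V] [CommRing B₀]
    [Algebra R B₀] [Algebra.FinitePresentation R B₀] [CommRing B] [Algebra R B] [Algebra V B] [Algebra B₀ B]
    [IsScalarTower R V B] [IsScalarTower R B₀ B] [Algebra.IsPushout R V B₀ B] (s₀ : B₀) (F₀ : Finset B₀)
    (hgood : ∀ Q : Ideal B, ∀ [Q.IsPrime], Q.comap (algebraMap V B) = maximalIdeal V →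
      (∀ b ∈ F₀, algebraMap B₀ B b ∈ Q) → algebraMap B₀ B s₀ ∉ Q → Module.Flat V (Localization.AtPrime Q)) :
    ∃ (S : Subalgebra R V) (_ : S.FG) (q : Ideal S), q = (maximalIdeal V).comap S.val.toRingHom ∧
      ∀ Q : Ideal (S ⊗[R] B₀), ∀ [Q.IsPrime],
        Q.comap (Algebra.TensorProduct.includeLeftRingHom : S →+* S ⊗[R] B₀) = q →
        (∀ b ∈ F₀, (1 : S) ⊗ₜ[R] b ∈ Q) → (1 : S) ⊗ₜ[R] s₀ ∉ Q → Module.Flat S (Localization.AtPrime Q) := by
  classical
  let G : Set B := {g | ∃ (T : Type u) (_ : CommRing T) (_ : Algebra R T) (_ : Algebra T V) (_ : IsScalarTower R T V)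
    (gT : T ⊗[R] B₀), Algebra.FiniteType R T ∧ Module.Flat T (Localization.Away gT) ∧
      stageMap (A₀ := R) V B₀ B T gT = g}
  let I : Ideal B := Ideal.span G ⊔ (maximalIdeal V).map (algebraMap V B) ⊔
    Ideal.span (algebraMap B₀ B '' (F₀ : Set B₀))
  have hI : algebraMap B₀ B s₀ ∈ I.radical := by
    rw [Ideal.radical_eq_sInf, Ideal.mem_sInf]
    rintro Q ⟨hIQ, hQp⟩
    by_contra hsQ
    haveI := hQp
    have hV : Q.comap (algebraMap V B) = maximalIdeal V :=
      le_antisymm (IsLocalRing.le_maximalIdeal (Ideal.IsPrime.ne_top inferInstance))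
        (Ideal.map_le_iff_le_comap.1 ((le_sup_right.trans le_sup_left).trans hIQ))
    have hfl : Module.Flat V (Localization.AtPrime Q) :=
      hgood Q hV (fun b hb => hIQ (Ideal.mem_sup_right (Ideal.subset_span ⟨b, hb, rfl⟩))) hsQ
    haveI : Module.Flat V (Localization.AtPrime Q ⊗[B₀] B₀) :=
      Module.Flat.of_linearEquiv ((AlgebraTensorModule.rid B₀ B (Localization.AtPrime Q)).restrictScalars V)
    obtain ⟨T, _, _, _, _, gT, hT, hgQ, hTflat⟩ :=
      exists_stage_flat (A₀ := R) (A := V) (B₀ := B₀) (B := B) (C := B₀) Q (L := Localization.AtPrime Q) inferInstance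
    refine hgQ (hIQ (Ideal.mem_sup_left (Ideal.mem_sup_left (Ideal.subset_span
      ⟨T, inferInstance, inferInstance, inferInstance, inferInstance, gT, inferInstance, ?_, rfl⟩))))
    exact Module.Flat.of_linearEquiv ((AlgebraTensorModule.rid B₀ (T ⊗[R] B₀) (Localization.Away gT)).restrictScalars T).symm
  obtain ⟨N, hN⟩ := hI
  -- the finitely many elements
  obtain ⟨x, hx, y, hy, hxy⟩ := Submodule.mem_sup.1 hN
  obtain ⟨x₁, hx₁, x₂, hx₂, rfl⟩ := Submodule.mem_sup.1 hx
  obtain ⟨G', hG', hx₁'⟩ := Submodule.mem_span_finite_of_mem_span hx₁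
  obtain ⟨M', hM', hx₂'⟩ := Submodule.mem_span_finite_of_mem_span (S := algebraMap V B '' (maximalIdeal V : Set V)) hx₂
  obtain ⟨M, hM, rfl⟩ := Finset.subset_set_image_iff.1 hM'
  choose T iT1 iT2 iT3 iT4 gT hTft hTfl hTg using fun g : G' => hG' g.2
  choose tT htT using fun g : G' => (hTft g).out
  let S₀ : Subalgebra R V := Algebra.adjoin R
    ((M ∪ Finset.univ.biUnion fun g : G' => (tT g).image (algebraMap (T g) V) : Finset V) : Set V)
  have hS₀ : S₀.FG := Subalgebra.fg_adjoin_finset _
  have hTS : ∀ (g : G') (t : T g), algebraMap (T g) V t ∈ S₀ := fun g t => by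
    have h1 : t ∈ Algebra.adjoin R (tT g : Set (T g)) := (htT g).ge Algebra.mem_top
    have h2 : algebraMap (T g) V t ∈ (Algebra.adjoin R (tT g : Set (T g))).map (IsScalarTower.toAlgHom R (T g) V) :=
      ⟨t, h1, rfl⟩
    rw [AlgHom.map_adjoin] at h2
    refine Algebra.adjoin_mono ?_ h2
    rintro _ ⟨z, hz, rfl⟩
    exact Finset.mem_union_right _ (Finset.mem_biUnion.2 ⟨g, Finset.mem_univ _, Finset.mem_image_of_mem _ hz⟩)
  let w : G' → S₀ ⊗[R] B₀ := fun g => Algebra.TensorProduct.map
    ((IsScalarTower.toAlgHom R (T g) V).codRestrict S₀ (hTS g)) (AlgHom.id R B₀) (gT g)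
  let W : Finset (S₀ ⊗[R] B₀) := (Finset.univ.image w ∪
    M.attach.image fun v => (⟨v.1, Algebra.subset_adjoin (Finset.mem_union_left _ v.2)⟩ : S₀) ⊗ₜ[R] (1 : B₀)) ∪
    F₀.image fun b => (1 : S₀) ⊗ₜ[R] b
  let eV : V ⊗[R] B₀ ≃ₐ[V] B := Algebra.IsPushout.equiv R V B₀ B
  have heq : ∀ (C : Subalgebra R V) (u : C ⊗[R] B₀),
      eV (Algebra.TensorProduct.map C.val (AlgHom.id R B₀) u) = stageMap (A₀ := R) V B₀ B C u := fun C u => by
    induction u using TensorProduct.induction_on with
    | zero => simp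
    | tmul a b => simp [eV, stageMap, Algebra.IsPushout.equiv_tmul]
    | add a b ha hb => simp only [map_add, ha, hb]
  have hz : Algebra.TensorProduct.map S₀.val (AlgHom.id R B₀) (((1 : S₀) ⊗ₜ[R] s₀) ^ N) ∈
      Ideal.span (Algebra.TensorProduct.map S₀.val (AlgHom.id R B₀) '' (W : Set (S₀ ⊗[R] B₀))) := by
    have key : ∀ z : S₀ ⊗[R] B₀, z ∈ W → stageMap (A₀ := R) V B₀ B S₀ z ∈
        Ideal.span (stageMap (A₀ := R) V B₀ B S₀ '' (W : Set (S₀ ⊗[R] B₀))) := fun z hz =>
      Ideal.subset_span ⟨z, hz, rfl⟩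
    have hgoal : stageMap (A₀ := R) V B₀ B S₀ (((1 : S₀) ⊗ₜ[R] s₀) ^ N) ∈
        Ideal.span (stageMap (A₀ := R) V B₀ B S₀ '' (W : Set (S₀ ⊗[R] B₀))) := by
      rw [map_pow, show stageMap (A₀ := R) V B₀ B S₀ ((1 : S₀) ⊗ₜ[R] s₀) = algebraMap B₀ B s₀ by simp [stageMap], ← hxy]
      refine add_mem (add_mem ?_ ?_) ?_
      · refine (Ideal.span_le.2 fun g hg => ?_) hx₁'
        have h1 := key (w ⟨g, hg⟩) (Finset.mem_union_left _ (Finset.mem_union_left _ (Finset.mem_image_of_mem _ (Finset.mem_univ _))))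
        have h2 : stageMap (A₀ := R) V B₀ B S₀ (w ⟨g, hg⟩) = g := by
          refine Eq.trans ?_ (hTg ⟨g, hg⟩)
          show stageMap (A₀ := R) V B₀ B S₀ (Algebra.TensorProduct.map _ _ (gT ⟨g, hg⟩)) = _
          generalize gT ⟨g, hg⟩ = u
          induction u using TensorProduct.induction_on with
          | zero => simp
          | tmul a b => simp [stageMap]
          | add a b ha hb => simp only [map_add, ha, hb]
        rwa [h2] at h1
      · refine (Ideal.span_le.2 fun g hg => ?_) hx₂'
        obtain ⟨v, hv, rfl⟩ := Finset.mem_image.1 (Finset.mem_coe.1 hg)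
        have h1 := key _ (Finset.mem_union_left _ (Finset.mem_union_right _
          (Finset.mem_image_of_mem _ (Finset.mem_attach M ⟨v, hv⟩))))
        have h2 : stageMap (A₀ := R) V B₀ B S₀
            ((⟨v, Algebra.subset_adjoin (Finset.mem_union_left _ hv)⟩ : S₀) ⊗ₜ[R] (1 : B₀)) = algebraMap V B v := by
          simp [stageMap]
        rwa [h2] at h1
      · refine (Ideal.span_le.2 ?_) hy
        rintro _ ⟨b, hb, rfl⟩
        have h1 := key _ (Finset.mem_union_right _ (Finset.mem_image_of_mem _ hb))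
        simpa [stageMap] using h1
    have h3 := Ideal.mem_map_of_mem eV.symm.toRingEquiv.toRingHom hgoal
    rw [Ideal.map_span, ← Set.image_comp] at h3
    have hsymm : ∀ u, eV.symm (stageMap (A₀ := R) V B₀ B S₀ u) = Algebra.TensorProduct.map S₀.val (AlgHom.id R B₀) u :=
      fun u => eV.injective (by rw [heq, AlgEquiv.apply_symm_apply])
    have himg : (eV.symm.toRingEquiv.toRingHom ∘ stageMap (A₀ := R) V B₀ B S₀) =
        Algebra.TensorProduct.map S₀.val (AlgHom.id R B₀) := funext hsymm
    rw [himg] at h3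
    rw [← hsymm]
    exact h3
  obtain ⟨S, hle, hS, hzS⟩ := exists_stage_mem_span S₀ hS₀ W _ hz
  refine ⟨S, hS, _, rfl, fun Q hQp hQV hQF hQs => ?_⟩
  let ι := Algebra.TensorProduct.map (Subalgebra.inclusion hle) (AlgHom.id R B₀)
  obtain ⟨g, hgw⟩ : ∃ g : G', ι (w g) ∉ Q := by
    by_contra hne
    push Not at hne
    refine hQs (hQp.mem_of_pow_mem N ?_)
    have h1 : Ideal.span (ι '' (W : Set (S₀ ⊗[R] B₀))) ≤ Q := by
      rw [Ideal.span_le]
      rintro _ ⟨u, hu, rfl⟩
      rcases Finset.mem_union.1 (Finset.mem_coe.1 hu) with hu | hu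
      · rcases Finset.mem_union.1 hu with hu | hu
        · obtain ⟨g, -, rfl⟩ := Finset.mem_image.1 hu
          exact hne g
        · obtain ⟨v, -, rfl⟩ := Finset.mem_image.1 hu
          have h2 : (⟨v.1, hle (Algebra.subset_adjoin (Finset.mem_union_left _ v.2))⟩ : S) ∈
              Q.comap (Algebra.TensorProduct.includeLeftRingHom : S →+* S ⊗[R] B₀) := by
            rw [hQV]; exact hM v.2
          simp [ι]
          exact h2
      · obtain ⟨b, hb, rfl⟩ := Finset.mem_image.1 hu
        simp [ι]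
        exact hQF b hb
    have h2 := h1 hzS
    simpa [ι] using h2
  letI : Algebra (T g) S := (((IsScalarTower.toAlgHom R (T g) V).codRestrict S fun t => hle (hTS g t))).toRingHom.toAlgebra
  haveI : IsScalarTower R (T g) S := .of_algebraMap_eq fun r =>
    (((IsScalarTower.toAlgHom R (T g) V).codRestrict S fun t => hle (hTS g t)).commutes r).symm
  obtain ⟨_, _, hpo, halg⟩ := isPushout_stage R (T g) S B₀
  haveI := hpo
  refine flat_atPrime_of_pushout (A := T g) (A' := S) (B := T g ⊗[R] B₀) (B' := S ⊗[R] B₀)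
    (Submonoid.powers (gT g)) (hTfl g) Q fun m hm hmem => ?_
  obtain ⟨n, rfl⟩ := hm
  rw [map_pow] at hmem
  refine hgw ?_
  have h1 := hQp.mem_of_pow_mem n hmem
  rw [halg] at h1
  have h2 : ι (w g) = Algebra.TensorProduct.map (IsScalarTower.toAlgHom R (T g) S) (AlgHom.id R B₀) (gT g) := by
    show ι (Algebra.TensorProduct.map _ _ (gT g)) = _
    generalize gT g = u
    induction u using TensorProduct.induction_on with
    | zero => simp
    | tmul a b => simp [ι]; rfl
    | add a b ha hb => simp only [map_add, ha, hb]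
  rwa [h2]

open FibFlatMod in
/-- Flatness over a normal local domain tested on one dominating domain. -/
theorem flat_normal {A V B : Type u} [CommRing A] [IsDomain A] [IsIntegrallyClosed A] [IsLocalRing A] [CommRing V]
    [IsDomain V] [IsLocalRing V] [Algebra A V] [IsLocalHom (algebraMap A V)] (hinj : Function.Injective (algebraMap A V))
    [CommRing B] [Algebra A B] [Algebra.FinitePresentation A B] (P : Ideal B) [P.IsPrime]
    (hP : P.comap (algebraMap A B) = maximalIdeal A)
    (H : ∀ Q : Ideal (V ⊗[A] B), ∀ [Q.IsPrime],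
      Q.comap (Algebra.TensorProduct.includeLeftRingHom : V →+* V ⊗[A] B) = maximalIdeal V →
      Q.comap (Algebra.TensorProduct.includeRight : B →ₐ[A] V ⊗[A] B).toRingHom = P →
      Module.Flat V (Localization.AtPrime Q)) :
    Module.Flat A (Localization.AtPrime P) := by
  classical
  obtain ⟨s, F, hs, hF, htest⟩ := exists_test_data P H
  obtain ⟨R, _, _, _, _, B₀, _, _, e, hRA, hG, hB₀, hlift⟩ := exists_normal_descent (A := A) (insert s F)
  haveI := hRA; haveI := hB₀; haveI := hG.1
  letI : Algebra R V := ((algebraMap A V).comp (algebraMap R A)).toAlgebra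
  haveI : IsScalarTower R A V := .of_algebraMap_eq fun _ => rfl
  letI : Algebra R B := ((algebraMap A B).comp (algebraMap R A)).toAlgebra
  haveI : IsScalarTower R A B := .of_algebraMap_eq fun _ => rfl
  let j : B₀ →ₐ[R] B := (e.toAlgHom.restrictScalars R).comp Algebra.TensorProduct.includeRight
  letI : Algebra B₀ B := j.toRingHom.toAlgebra
  haveI : IsScalarTower R B₀ B := .of_algebraMap_eq fun r => (j.commutes r).symm
  haveI : Algebra.IsPushout R A B₀ B := by
    letI : Algebra B₀ (A ⊗[R] B₀) := Algebra.TensorProduct.rightAlgebra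
    exact Algebra.IsPushout.of_equiv e (RingHom.ext fun _ => rfl)
  choose b₀ hb₀ using hlift
  let s₀ : B₀ := b₀ s (Finset.mem_insert_self s F)
  let F₀ : Finset B₀ := F.attach.image fun b => b₀ b.1 (Finset.mem_insert_of_mem b.2)
  let P₀ : Ideal B₀ := P.comap (algebraMap B₀ B)
  have hs₀ : s₀ ∉ P₀ := fun h => hs (by rw [← hb₀ s (Finset.mem_insert_self s F)]; exact h)
  have hF₀ : ∀ b ∈ F₀, b ∈ P₀ := fun b hb => by
    obtain ⟨c, -, rfl⟩ := Finset.mem_image.1 hb
    show e (1 ⊗ₜ b₀ c.1 _) ∈ P
    rw [hb₀]; exact hF _ c.2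
  let p : Ideal R := P₀.comap (algebraMap R B₀)
  have hp : p = (maximalIdeal A).comap (algebraMap R A) := by
    show (P.comap (algebraMap B₀ B)).comap (algebraMap R B₀) = _
    rw [← hP, Ideal.comap_comap, Ideal.comap_comap, ← IsScalarTower.algebraMap_eq, ← IsScalarTower.algebraMap_eq]
  -- points of the base change
  let θ : V ⊗[R] B₀ →ₐ[R] V ⊗[A] B := Algebra.TensorProduct.lift
    ((Algebra.TensorProduct.includeLeft : V →ₐ[A] V ⊗[A] B).restrictScalars R)
    (((Algebra.TensorProduct.includeRight : B →ₐ[A] V ⊗[A] B).restrictScalars R).comp j) fun _ _ => .all _ _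
  letI : Algebra B₀ (V ⊗[A] B) := ((θ.comp Algebra.TensorProduct.includeRight).toRingHom).toAlgebra
  haveI : IsScalarTower R B₀ (V ⊗[A] B) := .of_algebraMap_eq fun r => ((θ.comp Algebra.TensorProduct.includeRight).commutes r).symm
  haveI : Algebra.IsPushout R V B₀ (V ⊗[A] B) := by
    letI : Algebra B (V ⊗[A] B) := Algebra.TensorProduct.rightAlgebra
    haveI : IsScalarTower B₀ B (V ⊗[A] B) := .of_algebraMap_eq fun b => by
      show θ (1 ⊗ₜ b) = (1 : V) ⊗ₜ[A] (j b)
      simp [θ]
    haveI : IsScalarTower R B (V ⊗[A] B) := .of_algebraMap_eq fun r => by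
      show algebraMap R (V ⊗[A] B) r = (1 : V) ⊗ₜ[A] (algebraMap A B (algebraMap R A r))
      rw [IsScalarTower.algebraMap_apply R A (V ⊗[A] B)]
      exact ((Algebra.TensorProduct.includeRight : B →ₐ[A] V ⊗[A] B).commutes _).symm
    exact (Algebra.IsPushout.comp_iff (R := R) (S := A) (R' := B₀) (S' := B) (T := V) (T' := V ⊗[A] B)).2
      inferInstance
  have hgood : ∀ Q : Ideal (V ⊗[A] B), ∀ [Q.IsPrime],
      Q.comap (Algebra.TensorProduct.includeLeftRingHom : V →+* V ⊗[A] B) = maximalIdeal V →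
      (∀ b ∈ F₀, algebraMap B₀ (V ⊗[A] B) b ∈ Q) → algebraMap B₀ (V ⊗[A] B) s₀ ∉ Q →
      Module.Flat V (Localization.AtPrime Q) := fun Q _ hV hb hns => by
    refine htest Q hV (fun b hbF => ?_) fun h => hns ?_
    · have h1 := hb _ (Finset.mem_image_of_mem _ (Finset.mem_attach F ⟨b, hbF⟩))
      have h2 : algebraMap B₀ (V ⊗[A] B) (b₀ b (Finset.mem_insert_of_mem hbF)) = (1 : V) ⊗ₜ[A] b := by
        show θ (1 ⊗ₜ b₀ b _) = _
        simp [θ, j, hb₀]
      rwa [h2] at h1
    · show θ (1 ⊗ₜ s₀) ∈ Q
      simpa [θ, j, s₀, hb₀] using h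
  obtain ⟨S, hS, qS, hqp, hflat⟩ := exists_stage_tested (R := R) (V := V) (B₀ := B₀) (B := V ⊗[A] B) s₀ F₀ hgood
  haveI : Algebra.FiniteType R S := (Subalgebra.fg_iff_finiteType S).mp hS
  haveI : qS.LiesOver p := ⟨by
    rw [hp, Ideal.under_def, hqp, Ideal.comap_comap]
    have hloc : (maximalIdeal V).comap (algebraMap A V) = maximalIdeal A :=
      le_antisymm (IsLocalRing.le_maximalIdeal (Ideal.comap_ne_top _ (maximalIdeal.isMaximal V).ne_top))
        fun a ha => map_nonunit (algebraMap A V) a ha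
    rw [← hloc, Ideal.comap_comap]
    rfl⟩
  haveI : qS.IsPrime := hqp ▸ Ideal.comap_isPrime _ _
  haveI : P₀.LiesOver p := ⟨rfl⟩
  have hinjS : Function.Injective (algebraMap R S) := fun a b h =>
    FaithfulSMul.algebraMap_injective R A (hinj (congrArg Subtype.val h))
  have hflat₀ : Module.Flat R (Localization.AtPrime P₀) :=
    flat_stage hG hinjS p qS P₀ fun Q h1 h2 => hflat Q.asIdeal h1
      (fun b hb => by
        have h3 : b ∈ Q.asIdeal.comap (Algebra.TensorProduct.includeRight : B₀ →ₐ[R] S ⊗[R] B₀).toRingHom := by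
          rw [h2]; exact hF₀ b hb
        exact h3)
      (fun h => hs₀ (by rw [← h2]; exact h))
  refine flat_atPrime_of_pushout (A := R) (A' := A) (B := B₀) (B' := B) P₀.primeCompl hflat₀ P fun m hm h => hm h

end Groth.Agent.FlatUnibr
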