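import Groth.Agent.FlatUnibr.Criterion

/-!
# Points of affine base changes and primes of tensor products
-/

set_option autoImplicit false
set_option linter.style.haveILetI false
set_option backward.isDefEq.respectTransparency false
set_option backward.isDefEq.respectTransparency.types false

universe u

open CategoryTheory CategoryTheory.Limits AlgebraicGeometry TensorProduct IsLocalRing

namespace Groth.Agent.FlatUnibr

/-- Flatness at points of an affine base change from flatness at primes of the tensor product. -/
theorem flat_stalkMap_pullback {A C B : Type u} [CommRing A] [CommRing C] [CommRing B] [Algebra A C] [Algebra A B]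
    (w : ↥(pullback (Spec.map (CommRingCat.ofHom (algebraMap A B))) (Spec.map (CommRingCat.ofHom (algebraMap A C)))))
    (h : ∀ Q : PrimeSpectrum (C ⊗[A] B),
      Q.asIdeal.comap (Algebra.TensorProduct.includeLeftRingHom : C →+* C ⊗[A] B) =
        (show PrimeSpectrum C from pullback.snd (Spec.map (CommRingCat.ofHom (algebraMap A B))) _ w).asIdeal →
      Q.asIdeal.comap (Algebra.TensorProduct.includeRight : B →ₐ[A] C ⊗[A] B).toRingHom =
        (show PrimeSpectrum B from pullback.fst (Spec.map (CommRingCat.ofHom (algebraMap A B))) _ w).asIdeal →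
      Module.Flat C (Localization.AtPrime Q.asIdeal)) :
    ((pullback.snd (Spec.map (CommRingCat.ofHom (algebraMap A B)))
      (Spec.map (CommRingCat.ofHom (algebraMap A C)))).stalkMap w).hom.Flat := by
  let f := Spec.map (CommRingCat.ofHom (algebraMap A B))
  let g := Spec.map (CommRingCat.ofHom (algebraMap A C))
  let sq := (FlatDvrVC5.isPullback_tensor (A := CommRingCat.of A) (S := CommRingCat.of B) C
    (CommRingCat.ofHom (algebraMap A B)) rfl).flip
  let Q : PrimeSpectrum (C ⊗[A] B) := sq.isoPullback.inv w
  have eL : Spec.map (CommRingCat.ofHom (Algebra.TensorProduct.includeLeftRingHom : C →+* C ⊗[A] B)) Q =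
      pullback.snd f g w := by
    rw [← sq.isoPullback_inv_snd]; rfl
  have eR : Spec.map (CommRingCat.ofHom (Algebra.TensorProduct.includeRight : B →ₐ[A] C ⊗[A] B).toRingHom) Q =
      pullback.fst f g w := by
    rw [← sq.isoPullback_inv_fst]; rfl
  have h' := (flat_atPrime_iff Q).1 (h Q (congrArg PrimeSpectrum.asIdeal eL) (congrArg PrimeSpectrum.asIdeal eR))
  exact FlatDvrVC5.flat_stalkMap_of_comp sq.isoPullback.inv _ _ sq.isoPullback_inv_snd w h'

/-- Flatness at a prime of the tensor product from flatness at the points of a base change with an affine chart. -/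
theorem flat_of_chart {A C B : Type u} [CommRing A] [CommRing C] [CommRing B] [Algebra A C] [Algebra A B] {X : Scheme.{u}}
    (j : Spec (CommRingCat.of B) ⟶ X) [IsOpenImmersion j] (f : X ⟶ Spec (CommRingCat.of A))
    (hf : j ≫ f = Spec.map (CommRingCat.ofHom (algebraMap A B))) (Q : PrimeSpectrum (C ⊗[A] B))
    (h : ∀ w : ↥(pullback f (Spec.map (CommRingCat.ofHom (algebraMap A C)))),
      pullback.fst f (Spec.map (CommRingCat.ofHom (algebraMap A C))) w =
        j (Spec.map (CommRingCat.ofHom (Algebra.TensorProduct.includeRight : B →ₐ[A] C ⊗[A] B).toRingHom) Q) →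
      pullback.snd f (Spec.map (CommRingCat.ofHom (algebraMap A C))) w =
        Spec.map (CommRingCat.ofHom (Algebra.TensorProduct.includeLeftRingHom : C →+* C ⊗[A] B)) Q →
      ((pullback.snd f (Spec.map (CommRingCat.ofHom (algebraMap A C)))).stalkMap w).hom.Flat) :
    Module.Flat C (Localization.AtPrime Q.asIdeal) := by
  let g := Spec.map (CommRingCat.ofHom (algebraMap A C))
  have sq : IsPullback (Spec.map (CommRingCat.ofHom (Algebra.TensorProduct.includeRight : B →ₐ[A] C ⊗[A] B).toRingHom))
      (Spec.map (CommRingCat.ofHom (Algebra.TensorProduct.includeLeftRingHom : C →+* C ⊗[A] B))) (j ≫ f) g := by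
    rw [hf]
    exact (FlatDvrVC5.isPullback_tensor (A := CommRingCat.of A) (S := CommRingCat.of B) C
      (CommRingCat.ofHom (algebraMap A B)) rfl).flip
  let n : Spec (CommRingCat.of (C ⊗[A] B)) ⟶ pullback f g := pullback.lift
    (Spec.map (CommRingCat.ofHom (Algebra.TensorProduct.includeRight : B →ₐ[A] C ⊗[A] B).toRingHom) ≫ j)
    (Spec.map (CommRingCat.ofHom (Algebra.TensorProduct.includeLeftRingHom : C →+* C ⊗[A] B)))
    (by rw [Category.assoc]; exact sq.w)
  have hn : IsPullback (Spec.map (CommRingCat.ofHom (Algebra.TensorProduct.includeRight : B →ₐ[A] C ⊗[A] B).toRingHom))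
      n j (pullback.fst f g) := by
    refine IsPullback.of_bot ?_ (pullback.lift_fst _ _ _).symm (IsPullback.of_hasPullback f g)
    rw [pullback.lift_snd]
    exact sq
  haveI : IsOpenImmersion n := MorphismProperty.of_isPullback hn inferInstance
  rw [flat_atPrime_iff]
  have h1 := h (n Q) (by rw [← Scheme.Hom.comp_apply, pullback.lift_fst, Scheme.Hom.comp_apply])
    (by rw [← Scheme.Hom.comp_apply, pullback.lift_snd])
  have h2 : n ≫ pullback.snd f g = Spec.map (CommRingCat.ofHom (algebraMap C (C ⊗[A] B))) := pullback.lift_snd _ _ _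
  exact FlatDvrVC5.flat_stalkMap_of_comp n _ _ h2 Q h1

end Groth.Agent.FlatUnibr
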