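import Groth.Agent.FlatUnibr.NormalBase
import Groth.Agent.FlatUnibr.Points
import Groth.Agent.S2564
import Groth.Prelude.Def_CAlg2

/-!
# Flatness over a unibranch local domain: reduction to the normalization
-/

set_option autoImplicit false
set_option linter.style.haveILetI false
set_option backward.isDefEq.respectTransparency false

universe u

open CategoryTheory CategoryTheory.Limits AlgebraicGeometry TensorProduct IsLocalRing

namespace Groth.Agent.FlatUnibr

/-- The integral closure is insensitive to a bijective change of base. -/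
theorem exists_normalization_aux (A R K : Type u) [CommRing A] [IsDomain A] [CommRing R] [IsDomain R] [Algebra A R]
    [Field K] [Algebra R K] [Algebra A K] [IsScalarTower A R K] [IsFractionRing R K]
    (h : Function.Bijective (algebraMap A R)) [IsLocalRing (integralClosure R K)] :
    IsFractionRing A K ∧ IsLocalRing (integralClosure A K) := by
  refine ⟨{ map_units := fun y => ?_, surj := fun z => ?_, exists_of_eq := fun {x y} hxy => ⟨1, ?_⟩ }, ?_⟩
  · rw [IsScalarTower.algebraMap_apply A R K]
    exact IsUnit.mk0 _ fun h0 => nonZeroDivisors.ne_zero y.2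
      (h.1 ((IsFractionRing.injective R K (h0.trans (map_zero _).symm)).trans (map_zero _).symm))
  · obtain ⟨⟨a, t⟩, ht⟩ := IsLocalization.surj (nonZeroDivisors R) z
    obtain ⟨a', rfl⟩ := h.2 a
    obtain ⟨t', ht'⟩ := h.2 t
    refine ⟨⟨a', ⟨t', mem_nonZeroDivisors_iff_ne_zero.2 fun h0 => nonZeroDivisors.ne_zero t.2
      (by rw [← ht', h0, map_zero])⟩⟩, ?_⟩
    dsimp only at ht ⊢
    rw [IsScalarTower.algebraMap_apply A R K a', IsScalarTower.algebraMap_apply A R K t', ht']
    exact ht
  · rw [IsScalarTower.algebraMap_apply A R K, IsScalarTower.algebraMap_apply A R K] at hxy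
    rw [h.1 (IsFractionRing.injective R K hxy)]
  · haveI : Algebra.IsIntegral A R := algebraMap_isIntegral_iff.1 ((algebraMap A R).isIntegral_of_surjective h.2)
    let j : integralClosure R K ≃+* integralClosure A K :=
      { toFun := fun z => ⟨z.1, isIntegral_trans (R := A) z.1 z.2⟩
        invFun := fun z => ⟨z.1, (show IsIntegral A z.1 from z.2).tower_top⟩
        left_inv := fun _ => rfl
        right_inv := fun _ => rfl
        map_mul' := fun _ _ => rfl
        map_add' := fun _ _ => rfl }
    exact j.isLocalRing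

/-- The normalization of a unibranch local domain. -/
theorem exists_normalization (A : Type u) [CommRing A] [IsDomain A] [IsLocalRing A] (hA : CAlg2.IsUnibranch A) :
    ∃ (K : Type u) (_ : Field K) (_ : Algebra A K) (_ : IsFractionRing A K),
      IsLocalRing (integralClosure A K) ∧ IsIntegrallyClosed (integralClosure A K) := by
  haveI := hA.1
  let K := FractionRing (CAlg2.red A)
  haveI : IsLocalRing (integralClosure (CAlg2.red A) K) := hA.2
  obtain ⟨hK, hloc⟩ := exists_normalization_aux A (CAlg2.red A) K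
    ⟨(RingHom.injective_iff_ker_eq_bot (Ideal.Quotient.mk (nilradical A))).2
      (by rw [Ideal.mk_ker]; exact nilradical_eq_zero A), Ideal.Quotient.mk_surjective⟩
  exact ⟨K, inferInstance, inferInstance, hK, hloc, integralClosure.isIntegrallyClosedOfFiniteExtension K⟩

/-- A dominating valuation ring. -/
theorem exists_dominating_domain (A A' : Type u) [CommRing A] [IsDomain A] [IsLocalRing A] [CommRing A'] [IsLocalRing A']
    [Algebra A A'] [IsLocalHom (algebraMap A A')] (hinj : Function.Injective (algebraMap A A')) :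
    ∃ (V : Type u) (_ : CommRing V) (_ : IsDomain V) (_ : IsLocalRing V) (_ : IsIntegrallyClosed V) (φ : A' →+* V),
      IsLocalHom φ ∧ Function.Injective (φ.comp (algebraMap A A')) := by
  have hd : Disjoint ((⊥ : Ideal A') : Set A') ((nonZeroDivisors A).map (algebraMap A A') : Set A') := by
    rw [Set.disjoint_left]
    rintro _ hx ⟨a, ha, rfl⟩
    exact nonZeroDivisors.ne_zero ha (hinj ((Ideal.mem_bot.1 hx).trans (map_zero _).symm))
  obtain ⟨q', hq', -, hq'd⟩ := Ideal.exists_le_prime_disjoint ⊥ _ hd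
  haveI := hq'
  let g : A' →+* FractionRing (A' ⧸ q') := (algebraMap (A' ⧸ q') _).comp (Ideal.Quotient.mk q')
  obtain ⟨V, hgV, hgloc⟩ := IsLocalRing.exists_factor_valuationRing g
  refine ⟨V, inferInstance, inferInstance, inferInstance, inferInstance, g.codRestrict V.toSubring hgV, hgloc, ?_⟩
  rw [injective_iff_map_eq_zero]
  intro a ha
  by_contra hne
  have h1 : g (algebraMap A A' a) = 0 := congrArg Subtype.val ha
  have h2 : algebraMap A A' a ∈ q' :=
    Ideal.Quotient.eq_zero_iff_mem.1 (IsFractionRing.injective (A' ⧸ q') _ (h1.trans (map_zero _).symm))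
  exact Set.disjoint_left.1 hq'd h2 ⟨a, mem_nonZeroDivisors_iff_ne_zero.2 hne, rfl⟩

/-- Flatness passes to the iterated base change. -/
theorem flat_transfer {A A₁ A' V B : Type u} [CommRing A] [CommRing A₁] [CommRing A'] [CommRing V] [CommRing B]
    [IsLocalRing A'] [IsLocalRing V] [Algebra A A₁] [Algebra A A'] [Algebra A V] [Algebra A₁ V] [Algebra A' V]
    [Algebra A B] [IsScalarTower A A₁ V] [IsScalarTower A A' V] [IsLocalHom (algebraMap A' V)]
    (P : Ideal B)
    (H : ∀ Q : PrimeSpectrum (A' ⊗[A] B),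
      Q.asIdeal.comap (Algebra.TensorProduct.includeLeftRingHom : A' →+* A' ⊗[A] B) = maximalIdeal A' →
      Q.asIdeal.comap (Algebra.TensorProduct.includeRight : B →ₐ[A] A' ⊗[A] B).toRingHom = P →
      Module.Flat A' (Localization.AtPrime Q.asIdeal))
    (Q : Ideal (V ⊗[A₁] (A₁ ⊗[A] B))) [Q.IsPrime]
    (hQV : Q.comap (Algebra.TensorProduct.includeLeftRingHom : V →+* V ⊗[A₁] (A₁ ⊗[A] B)) = maximalIdeal V)
    (hQr : (Q.comap (Algebra.TensorProduct.includeRight : A₁ ⊗[A] B →ₐ[A₁] V ⊗[A₁] (A₁ ⊗[A] B)).toRingHom).comap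
      (Algebra.TensorProduct.includeRight : B →ₐ[A] A₁ ⊗[A] B).toRingHom = P) :
    Module.Flat V (Localization.AtPrime Q) := by
  let B₁ := A₁ ⊗[A] B
  letI : Algebra B B₁ := Algebra.TensorProduct.rightAlgebra
  let T := V ⊗[A₁] B₁
  let r : B →ₐ[A] T := ((Algebra.TensorProduct.includeRight : B₁ →ₐ[A₁] T).restrictScalars A).comp
      (Algebra.TensorProduct.includeRight : B →ₐ[A] B₁)
  let ψ : A' ⊗[A] B →ₐ[A] T := Algebra.TensorProduct.lift
    ((IsScalarTower.toAlgHom A V T).comp (IsScalarTower.toAlgHom A A' V)) r fun _ _ => .all _ _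
  letI : Algebra B T := r.toRingHom.toAlgebra
  letI : Algebra B₁ T := Algebra.TensorProduct.rightAlgebra
  haveI : IsScalarTower B B₁ T := .of_algebraMap_eq fun _ => rfl
  haveI : IsScalarTower A B T := .of_algebraMap_eq fun a => (r.commutes a).symm
  haveI : IsScalarTower A B₁ T := .of_algebraMap_eq fun a =>
    (((Algebra.TensorProduct.includeRight : B₁ →ₐ[A₁] T).restrictScalars A).commutes a).symm
  haveI hbig : Algebra.IsPushout A V B T :=
    (Algebra.IsPushout.comp_iff (R := A) (S := A₁) (R' := B) (S' := B₁) (T := V) (T' := T)).2 inferInstance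
  letI : Algebra (A' ⊗[A] B) T := ψ.toRingHom.toAlgebra
  letI : Algebra B (A' ⊗[A] B) := Algebra.TensorProduct.rightAlgebra
  haveI : IsScalarTower A' (A' ⊗[A] B) T := .of_algebraMap_eq fun a => by
    show algebraMap A' T a = ψ (a ⊗ₜ 1)
    simp [ψ, IsScalarTower.algebraMap_apply A' V T]
  haveI : IsScalarTower B (A' ⊗[A] B) T := .of_algebraMap_eq fun b => by
    show r b = ψ (1 ⊗ₜ b)
    simp [ψ]
  haveI : IsScalarTower A (A' ⊗[A] B) T := .of_algebraMap_eq fun a => (ψ.commutes a).symm
  haveI : Algebra.IsPushout A' V (A' ⊗[A] B) T :=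
    (Algebra.IsPushout.comp_iff (R := A) (S := A') (R' := B) (S' := A' ⊗[A] B) (T := V) (T' := T)).1 hbig
  let Q' : PrimeSpectrum (A' ⊗[A] B) := ⟨Q.comap ψ.toRingHom, Ideal.comap_isPrime _ _⟩
  refine flat_atPrime_of_pushout (A := A') (A' := V) (B := A' ⊗[A] B) (B' := T) Q'.asIdeal.primeCompl
    (H Q' ?_ ?_) Q fun m hm h => hm h
  · show (Q.comap ψ.toRingHom).comap _ = _
    rw [Ideal.comap_comap]
    have h1 : ψ.toRingHom.comp (Algebra.TensorProduct.includeLeftRingHom : A' →+* A' ⊗[A] B) =
        (Algebra.TensorProduct.includeLeftRingHom : V →+* T).comp (algebraMap A' V) := RingHom.ext fun a => by simp [ψ]; rfl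
    rw [h1, ← Ideal.comap_comap, hQV]
    exact le_antisymm (IsLocalRing.le_maximalIdeal (Ideal.comap_ne_top _ (maximalIdeal.isMaximal V).ne_top))
      fun a ha => map_nonunit (algebraMap A' V) a ha
  · show (Q.comap ψ.toRingHom).comap _ = _
    rw [← hQr, Ideal.comap_comap, Ideal.comap_comap]
    refine congrArg (fun φ => Q.comap φ) (RingHom.ext fun b => ?_)
    show ψ ((1 : A') ⊗ₜ[A] b) = (1 : V) ⊗ₜ[A₁] ((1 : A₁) ⊗ₜ[A] b)
    simp [ψ, r]
    rfl

/-- Flatness over a local ring from flatness over a normal local integral extension inside a dominating ring. -/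
theorem flat_via_normal {A A₁ A' V B : Type u} [CommRing A] [IsLocalRing A] [CommRing A₁] [IsDomain A₁]
    [IsIntegrallyClosed A₁] [IsLocalRing A₁] [CommRing A'] [IsLocalRing A'] [CommRing V] [IsDomain V] [IsLocalRing V]
    [CommRing B] [Algebra A A₁] [Algebra.IsIntegral A A₁] [Algebra A A'] [Algebra A V] [Algebra A₁ V] [Algebra A' V]
    [IsScalarTower A A₁ V] [IsScalarTower A A' V] [IsLocalHom (algebraMap A' V)] [IsLocalHom (algebraMap A₁ V)]
    (hinj : Function.Injective (algebraMap A A₁)) (hinj₁ : Function.Injective (algebraMap A₁ V))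
    [Algebra A B] [Algebra.FinitePresentation A B] (P : PrimeSpectrum B)
    (hP : P.asIdeal.comap (algebraMap A B) = maximalIdeal A)
    (H : ∀ Q : PrimeSpectrum (A' ⊗[A] B),
      Q.asIdeal.comap (Algebra.TensorProduct.includeLeftRingHom : A' →+* A' ⊗[A] B) = maximalIdeal A' →
      Q.asIdeal.comap (Algebra.TensorProduct.includeRight : B →ₐ[A] A' ⊗[A] B).toRingHom = P.asIdeal →
      Module.Flat A' (Localization.AtPrime Q.asIdeal)) :
    Module.Flat A (Localization.AtPrime P.asIdeal) := by
  rw [flat_atPrime_iff P]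
  haveI : LocallyOfFinitePresentation (Spec.map (CommRingCat.ofHom (algebraMap A B))) :=
    (HasRingHomProperty.Spec_iff (P := @LocallyOfFinitePresentation)).2
      (RingHom.finitePresentation_algebraMap.2 inferInstance)
  refine S2564.result (A := A) (A' := A₁) hinj (X := Spec (CommRingCat.of B))
    (Spec.map (CommRingCat.ofHom (algebraMap A B))) P fun w hw => ?_
  refine flat_stalkMap_pullback (A := A) (C := A₁) (B := B) w fun Q₁ hQ₁l hQ₁r => ?_
  have hw' : (show PrimeSpectrum B from pullback.fst (Spec.map (CommRingCat.ofHom (algebraMap A B)))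
      (Spec.map (CommRingCat.ofHom (algebraMap A A₁))) w) = P := hw
  have hQ₁r' : Q₁.asIdeal.comap (Algebra.TensorProduct.includeRight : B →ₐ[A] A₁ ⊗[A] B).toRingHom = P.asIdeal :=
    hQ₁r.trans (congrArg PrimeSpectrum.asIdeal hw')
  have hQ₁m : Q₁.asIdeal.comap (algebraMap A₁ (A₁ ⊗[A] B)) = maximalIdeal A₁ := by
    refine IsLocalRing.eq_maximalIdeal (Ideal.isMaximal_of_isIntegral_of_isMaximal_comap (R := A) _ ?_)
    have h1 : (Q₁.asIdeal.comap (algebraMap A₁ (A₁ ⊗[A] B))).comap (algebraMap A A₁) = maximalIdeal A := by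
      rw [Ideal.comap_comap, ← hP, ← hQ₁r', Ideal.comap_comap]
      refine congrArg (fun φ => Q₁.asIdeal.comap φ) (RingHom.ext fun a => ?_)
      exact (IsScalarTower.algebraMap_apply A A₁ (A₁ ⊗[A] B) a).symm.trans
        ((Algebra.TensorProduct.includeRight : B →ₐ[A] A₁ ⊗[A] B).commutes a).symm
    rw [h1]
    infer_instance
  refine flat_normal (A := A₁) (V := V) (B := A₁ ⊗[A] B) hinj₁ Q₁.asIdeal hQ₁m fun Q hQp hQV hQr => ?_
  refine flat_transfer (A₁ := A₁) (A' := A') P.asIdeal H Q hQV ?_
  rw [hQr]
  exact hQ₁r'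

/-- Flatness over a unibranch local domain from flatness over one dominating local ring at all relevant primes. -/
theorem flat_unibranch {A A' B : Type u} [CommRing A] [IsDomain A] [IsLocalRing A] (hA : CAlg2.IsUnibranch A)
    [CommRing A'] [IsLocalRing A'] [Algebra A A'] [IsLocalHom (algebraMap A A')]
    (hinj : Function.Injective (algebraMap A A')) [CommRing B] [Algebra A B] [Algebra.FinitePresentation A B]
    (P : PrimeSpectrum B) (hP : P.asIdeal.comap (algebraMap A B) = maximalIdeal A)
    (H : ∀ Q : PrimeSpectrum (A' ⊗[A] B),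
      Q.asIdeal.comap (Algebra.TensorProduct.includeLeftRingHom : A' →+* A' ⊗[A] B) = maximalIdeal A' →
      Q.asIdeal.comap (Algebra.TensorProduct.includeRight : B →ₐ[A] A' ⊗[A] B).toRingHom = P.asIdeal →
      Module.Flat A' (Localization.AtPrime Q.asIdeal)) :
    Module.Flat A (Localization.AtPrime P.asIdeal) := by
  obtain ⟨K, _, _, _, hloc, hnorm⟩ := exists_normalization A hA
  let Ā := integralClosure A K
  haveI : IsLocalRing Ā := hloc
  haveI : IsIntegrallyClosed Ā := hnorm
  have hĀinj : Function.Injective (algebraMap A Ā) := fun a b h =>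
    IsFractionRing.injective A K (congrArg Subtype.val h)
  obtain ⟨V, _, _, _, _, φ, hφ, hφinj⟩ := exists_dominating_domain A A' hinj
  letI : Algebra A' V := φ.toAlgebra
  letI : Algebra A V := (φ.comp (algebraMap A A')).toAlgebra
  haveI : IsScalarTower A A' V := .of_algebraMap_eq fun _ => rfl
  haveI hA'V : IsLocalHom (algebraMap A' V) := hφ
  haveI hAV : IsLocalHom (algebraMap A V) := RingHom.isLocalHom_comp (algebraMap A' V) (algebraMap A A')
  haveI : FaithfulSMul A V := (faithfulSMul_iff_algebraMap_injective A V).2 hφinj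
  obtain ⟨i, hi, hir⟩ := exists_hom_integralClosure A V K
  letI : Algebra Ā V := i.toAlgebra
  haveI : IsScalarTower A Ā V := .of_algebraMap_eq fun a => (hir a).symm
  haveI : IsLocalHom (algebraMap Ā V) := by
    have hm : (maximalIdeal V).comap (algebraMap Ā V) = maximalIdeal Ā := by
      refine IsLocalRing.eq_maximalIdeal (Ideal.isMaximal_of_isIntegral_of_isMaximal_comap (R := A) _ ?_)
      rw [Ideal.comap_comap, ← IsScalarTower.algebraMap_eq]
      have hm' : (maximalIdeal V).comap (algebraMap A V) = maximalIdeal A :=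
        le_antisymm (IsLocalRing.le_maximalIdeal (Ideal.comap_ne_top _ (maximalIdeal.isMaximal V).ne_top))
          fun a ha => map_nonunit (algebraMap A V) a ha
      rw [hm']
      infer_instance
    exact ⟨fun a ha => by_contra fun hna => (maximalIdeal.isMaximal V).ne_top
      (Ideal.eq_top_of_isUnit_mem _ (show algebraMap Ā V a ∈ maximalIdeal V from hm.ge hna) ha)⟩
  exact flat_via_normal (A₁ := Ā) (V := V) hĀinj hi P hP H

end Groth.Agent.FlatUnibr
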