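import Groth.Agent.FlatUnibr.Strict
import Groth.Agent.FlatUnibr.Reduction

/-!
# Flatness over a geometrically unibranch local domain tested at one point
-/

set_option autoImplicit false
set_option linter.style.haveILetI false

universe u

open TensorProduct IsLocalRing

namespace Groth.Agent.FlatUnibr

open FibFlatMod in
attribute [local instance] Algebra.TensorProduct.rightAlgebra in
/-- Flatness at one point holds already over a finitely generated subring. -/
theorem exists_stage_point {R V B₀ B : Type u} [CommRing R] [CommRing V] [Algebra R V] [CommRing B₀]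
    [Algebra R B₀] [Algebra.FinitePresentation R B₀] [CommRing B] [Algebra R B] [Algebra V B] [Algebra B₀ B]
    [IsScalarTower R V B] [IsScalarTower R B₀ B] [Algebra.IsPushout R V B₀ B] (Q : Ideal B) [Q.IsPrime]
    (hQ : Module.Flat V (Localization.AtPrime Q)) :
    ∃ S : Subalgebra R V, S.FG ∧ ∃ Q₀ : PrimeSpectrum (S ⊗[R] B₀),
      Q₀.asIdeal.comap (Algebra.TensorProduct.includeRight : B₀ →ₐ[R] S ⊗[R] B₀).toRingHom =
          Q.comap (algebraMap B₀ B) ∧
        Module.Flat S (Localization.AtPrime Q₀.asIdeal) := by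
  classical
  haveI : Module.Flat V (Localization.AtPrime Q ⊗[B₀] B₀) :=
    Module.Flat.of_linearEquiv ((AlgebraTensorModule.rid B₀ B (Localization.AtPrime Q)).restrictScalars V)
  obtain ⟨T, _, _, _, _, gT, hT, hgQ, hTflat⟩ :=
    exists_stage_flat (A₀ := R) (A := V) (B₀ := B₀) (B := B) (C := B₀) Q (L := Localization.AtPrime Q) inferInstance
  haveI : Module.Flat T (Localization.Away gT) :=
    Module.Flat.of_linearEquiv ((AlgebraTensorModule.rid B₀ (T ⊗[R] B₀) (Localization.Away gT)).restrictScalars T).symm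
  let S : Subalgebra R V := (IsScalarTower.toAlgHom R T V).range
  have hS : S.FG := by
    show (IsScalarTower.toAlgHom R T V).range.FG
    rw [← Algebra.map_top]
    exact (Algebra.FiniteType.out (R := R) (A := T)).map _
  let π := (IsScalarTower.toAlgHom R T V).rangeRestrict
  letI : Algebra T S := π.toRingHom.toAlgebra
  haveI : IsScalarTower R T S := .of_algebraMap_eq fun r => (π.commutes r).symm
  refine ⟨S, hS, ⟨Q.comap (stageMap (A₀ := R) V B₀ B S).toRingHom, Ideal.comap_isPrime _ _⟩, ?_, ?_⟩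
  · show (Q.comap _).comap _ = _
    rw [Ideal.comap_comap]
    exact congrArg (fun φ => Q.comap φ) (RingHom.ext fun b => by simp [stageMap])
  obtain ⟨_, _, hpo, halg⟩ := isPushout_stage R T S B₀
  haveI := hpo
  refine flat_atPrime_of_pushout (A := T) (A' := S) (B := T ⊗[R] B₀) (B' := S ⊗[R] B₀) (Submonoid.powers gT)
    inferInstance _ fun m hm hmem => ?_
  obtain ⟨n, rfl⟩ := hm
  refine hgQ (Ideal.IsPrime.mem_of_pow_mem inferInstance n ?_)
  have h1 : stageMap (A₀ := R) V B₀ B S (algebraMap (T ⊗[R] B₀) (S ⊗[R] B₀) (gT ^ n)) =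
      stageMap (A₀ := R) V B₀ B T (gT ^ n) := by
    rw [halg]
    generalize gT ^ n = u
    induction u using TensorProduct.induction_on with
    | zero => simp
    | tmul a b => simp [stageMap]; rfl
    | add a b ha hb => simp only [map_add, ha, hb]
  rw [← map_pow, ← h1]
  exact hmem

/-- Flatness over a normal local domain tested at one point of one dominating domain. -/
theorem flat_normal_point {A V B : Type u} [CommRing A] [IsDomain A] [IsIntegrallyClosed A] [CommRing V] [IsDomain V]
    [Algebra A V] (hinj : Function.Injective (algebraMap A V))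
    [CommRing B] [Algebra A B] [Algebra.FinitePresentation A B] (Q : Ideal (V ⊗[A] B)) [Q.IsPrime]
    (hQ : Module.Flat V (Localization.AtPrime Q)) (P : Ideal B) [P.IsPrime]
    (hP : Q.comap (Algebra.TensorProduct.includeRight : B →ₐ[A] V ⊗[A] B).toRingHom = P) :
    Module.Flat A (Localization.AtPrime P) := by
  classical
  obtain ⟨R, _, _, _, _, B₀, _, _, e, hRA, hG, hB₀, -⟩ := exists_normal_descent (A := A) (∅ : Finset B)
  haveI := hRA; haveI := hB₀; haveI := hG.1
  letI : Algebra R V := ((algebraMap A V).comp (algebraMap R A)).toAlgebra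
  haveI : IsScalarTower R A V := .of_algebraMap_eq fun _ => rfl
  letI : Algebra R B := ((algebraMap A B).comp (algebraMap R A)).toAlgebra
  haveI : IsScalarTower R A B := .of_algebraMap_eq fun _ => rfl
  let j : B₀ →ₐ[R] B := (e.toAlgHom.restrictScalars R).comp Algebra.TensorProduct.includeRight
  letI : Algebra B₀ B := j.toRingHom.toAlgebra
  haveI : IsScalarTower R B₀ B := .of_algebraMap_eq fun r => (j.commutes r).symm
  haveI : Algebra.IsPushout R A B₀ B := by
    letI : Algebra B₀ (A ⊗[R] B₀) := Algebra.TensorProduct.rightAlgebra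
    exact Algebra.IsPushout.of_equiv e (RingHom.ext fun _ => rfl)
  letI : Algebra B (V ⊗[A] B) := Algebra.TensorProduct.rightAlgebra
  letI : Algebra B₀ (V ⊗[A] B) := ((algebraMap B (V ⊗[A] B)).comp (algebraMap B₀ B)).toAlgebra
  haveI : IsScalarTower B₀ B (V ⊗[A] B) := .of_algebraMap_eq fun _ => rfl
  haveI : IsScalarTower R B (V ⊗[A] B) := .of_algebraMap_eq fun r => by
    show algebraMap R (V ⊗[A] B) r = (1 : V) ⊗ₜ[A] (algebraMap A B (algebraMap R A r))
    rw [IsScalarTower.algebraMap_apply R A (V ⊗[A] B)]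
    exact ((Algebra.TensorProduct.includeRight : B →ₐ[A] V ⊗[A] B).commutes _).symm
  haveI : IsScalarTower R B₀ (V ⊗[A] B) := .of_algebraMap_eq fun r => by
    rw [IsScalarTower.algebraMap_apply B₀ B (V ⊗[A] B), ← IsScalarTower.algebraMap_apply R B₀ B,
      ← IsScalarTower.algebraMap_apply R B (V ⊗[A] B)]
  haveI : Algebra.IsPushout R V B₀ (V ⊗[A] B) :=
    (Algebra.IsPushout.comp_iff (R := R) (S := A) (R' := B₀) (S' := B) (T := V) (T' := V ⊗[A] B)).2 inferInstance
  obtain ⟨S, hS, Q₀, hQ₀, hflat⟩ := exists_stage_point (R := R) (B₀ := B₀) Q hQ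
  haveI : Algebra.FiniteType R S := (Subalgebra.fg_iff_finiteType S).mp hS
  have hinjS : Function.Injective (algebraMap R S) := fun a b h =>
    FaithfulSMul.algebraMap_injective R A (hinj (congrArg Subtype.val h))
  let P₀ : Ideal B₀ := P.comap (algebraMap B₀ B)
  have hQP : Q.comap (algebraMap B₀ (V ⊗[A] B)) = P₀ := by
    show _ = P.comap (algebraMap B₀ B)
    rw [← hP, Ideal.comap_comap]
    exact congrArg (fun φ => Q.comap φ) (RingHom.ext fun b => rfl)
  haveI : (P₀.comap (algebraMap R B₀)).IsPrime := inferInstance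
  have hflat₀ : Module.Flat R (Localization.AtPrime P₀) :=
    flat_stage_point hG hinjS (P₀.comap (algebraMap R B₀)) P₀ rfl Q₀.asIdeal (hQ₀.trans hQP) hflat
  exact flat_atPrime_of_pushout (A := R) (A' := A) (B := B₀) (B' := B) P₀.primeCompl hflat₀ P fun m hm h => hm h

/-- A radicial residue extension gives at most one prime above. -/
theorem prime_unique_of_radicial {A A₁ B : Type u} [CommRing A] [CommRing A₁] [IsLocalRing A₁] [Algebra A A₁]
    [CommRing B] [Algebra A B] (p : ℕ) [ExpChar (ResidueField A₁) p]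
    (hrad : ∀ a : A₁, ∃ (n : ℕ) (r : A), a ^ p ^ n - algebraMap A A₁ r ∈ maximalIdeal A₁)
    (Q₁ Q₂ : Ideal (A₁ ⊗[A] B)) [Q₁.IsPrime] [Q₂.IsPrime]
    (h₁ : Q₁.comap (algebraMap A₁ (A₁ ⊗[A] B)) = maximalIdeal A₁)
    (h₂ : Q₂.comap (algebraMap A₁ (A₁ ⊗[A] B)) = maximalIdeal A₁)
    (h : Q₁.comap (Algebra.TensorProduct.includeRight : B →ₐ[A] A₁ ⊗[A] B).toRingHom =
      Q₂.comap (Algebra.TensorProduct.includeRight : B →ₐ[A] A₁ ⊗[A] B).toRingHom) : Q₁ = Q₂ := by
  let M : Ideal (A₁ ⊗[A] B) := (maximalIdeal A₁).map (algebraMap A₁ (A₁ ⊗[A] B))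
  have hM₁ : M ≤ Q₁ := Ideal.map_le_iff_le_comap.2 h₁.ge
  have hM₂ : M ≤ Q₂ := Ideal.map_le_iff_le_comap.2 h₂.ge
  haveI : Nontrivial ((A₁ ⊗[A] B) ⧸ M) :=
    Ideal.Quotient.nontrivial_iff.2 fun h => (Ideal.IsPrime.ne_top (I := Q₁) inferInstance) (top_le_iff.1 (h ▸ hM₁))
  let κ : ResidueField A₁ →+* (A₁ ⊗[A] B) ⧸ M :=
    Ideal.Quotient.lift _ ((Ideal.Quotient.mk M).comp (algebraMap A₁ (A₁ ⊗[A] B))) fun a ha =>
      Ideal.Quotient.eq_zero_iff_mem.2 (Ideal.mem_map_of_mem _ ha)
  haveI : ExpChar ((A₁ ⊗[A] B) ⧸ M) p := expChar_of_injective_ringHom κ.injective p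
  have key : ∀ z : A₁ ⊗[A] B, ∃ (N : ℕ) (b : B), z ^ p ^ N - (1 : A₁) ⊗ₜ[A] b ∈ M := by
    intro z
    induction z using TensorProduct.induction_on with
    | zero =>
      refine ⟨0, 0, ?_⟩
      simp
    | tmul a b =>
      obtain ⟨n, r, hr⟩ := hrad a
      refine ⟨n, r • b ^ p ^ n, ?_⟩
      have hmul : ∀ (c : A₁) (y : B), algebraMap A₁ (A₁ ⊗[A] B) c * ((1 : A₁) ⊗ₜ[A] y) = c ⊗ₜ[A] y := fun c y => by
        simp [Algebra.TensorProduct.algebraMap_apply]
      have e : (a ⊗ₜ[A] b) ^ p ^ n - (1 : A₁) ⊗ₜ[A] (r • b ^ p ^ n) =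
          algebraMap A₁ (A₁ ⊗[A] B) (a ^ p ^ n - algebraMap A A₁ r) * ((1 : A₁) ⊗ₜ[A] (b ^ p ^ n)) := by
        rw [hmul, Algebra.TensorProduct.tmul_pow, TensorProduct.sub_tmul, Algebra.algebraMap_eq_smul_one,
          TensorProduct.smul_tmul]
      rw [e]
      exact Ideal.mul_mem_right _ _ (Ideal.mem_map_of_mem _ hr)
    | add x y hx hy =>
      obtain ⟨nx, bx, hx⟩ := hx
      obtain ⟨ny, by', hy⟩ := hy
      refine ⟨nx + ny, bx ^ p ^ ny + by' ^ p ^ nx, ?_⟩
      rw [← Ideal.Quotient.eq] at hx hy ⊢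
      rw [map_pow] at hx hy ⊢
      rw [map_add, add_pow_expChar_pow, TensorProduct.tmul_add, map_add]
      have e₁ : (Ideal.Quotient.mk M x) ^ p ^ (nx + ny) = Ideal.Quotient.mk M ((1 : A₁) ⊗ₜ[A] (bx ^ p ^ ny)) := by
        rw [pow_add, pow_mul, hx, ← map_pow, Algebra.TensorProduct.tmul_pow, one_pow]
      have e₂ : (Ideal.Quotient.mk M y) ^ p ^ (nx + ny) = Ideal.Quotient.mk M ((1 : A₁) ⊗ₜ[A] (by' ^ p ^ nx)) := by
        rw [pow_add, mul_comm, pow_mul, hy, ← map_pow, Algebra.TensorProduct.tmul_pow, one_pow]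
      rw [e₁, e₂]
  refine Ideal.ext fun z => ?_
  obtain ⟨N, b, hb⟩ := key z
  have hp : p ^ N ≠ 0 := (pow_pos (expChar_pos (ResidueField A₁) p) N).ne'
  have hiff : ∀ (Q : Ideal (A₁ ⊗[A] B)), Q.IsPrime → M ≤ Q → (z ∈ Q ↔ (1 : A₁) ⊗ₜ[A] b ∈ Q) := fun Q hQ hM => by
    constructor
    · intro hz
      have := sub_mem (Q.pow_mem_of_mem hz _ (Nat.pos_of_ne_zero hp)) (hM hb)
      simpa using this
    · intro hb'
      refine hQ.mem_of_pow_mem (p ^ N) ?_
      have := add_mem (hM hb) hb'
      simpa using this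
  rw [hiff Q₁ inferInstance hM₁, hiff Q₂ inferInstance hM₂]
  exact ⟨fun hm => (h.le hm :), fun hm => (h.ge hm :)⟩

/-- Radiciality of the residue extension does not depend on a bijective change of base. -/
theorem radicial_aux (A R K : Type u) [CommRing A] [CommRing R] [Algebra A R] [Field K] [Algebra R K] [Algebra A K]
    [IsScalarTower A R K] [Algebra.IsIntegral A R] [IsLocalRing (integralClosure R K)]
    [IsLocalRing (integralClosure A K)]
    (h : ∀ m' : Ideal (integralClosure R K), m'.IsMaximal → ∃ p : ℕ,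
      (∀ z : integralClosure R K ⧸ m', ∃ n : ℕ, z ^ p ^ n ∈
        ((Ideal.Quotient.mk m').comp ((algebraMap R (integralClosure R K)).comp (algebraMap A R))).range) ∧
      p = ringExpChar (integralClosure R K ⧸ m')) :
    ∃ p : ℕ, ExpChar (ResidueField (integralClosure A K)) p ∧
      ∀ a : integralClosure A K, ∃ (n : ℕ) (r : A), a ^ p ^ n - algebraMap A _ r ∈ maximalIdeal _ := by
  let j : integralClosure R K ≃+* integralClosure A K :=
    { toFun := fun z => ⟨z.1, isIntegral_trans (R := A) z.1 z.2⟩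
      invFun := fun z => ⟨z.1, (show IsIntegral A z.1 from z.2).tower_top⟩
      left_inv := fun _ => rfl
      right_inv := fun _ => rfl
      map_mul' := fun _ _ => rfl
      map_add' := fun _ _ => rfl }
  obtain ⟨p, hz, rfl⟩ := h (maximalIdeal _) inferInstance
  have hj : ∀ r : A, j (algebraMap R _ (algebraMap A R r)) = algebraMap A (integralClosure A K) r := fun r =>
    Subtype.ext (IsScalarTower.algebraMap_apply A R K r).symm
  haveI : IsLocalHom j.toRingHom := ⟨fun a ha => (isUnit_map_iff j a).1 ha⟩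
  haveI : ExpChar (ResidueField (integralClosure R K)) (ringExpChar ((integralClosure R K) ⧸ maximalIdeal (integralClosure R K))) :=
    inferInstanceAs (ExpChar (ResidueField (integralClosure R K)) (ringExpChar (ResidueField (integralClosure R K))))
  refine ⟨_, expChar_of_injective_ringHom (f := ResidueField.map j.toRingHom) (RingHom.injective _)
    (ringExpChar ((integralClosure R K) ⧸ maximalIdeal (integralClosure R K))), fun a => ?_⟩
  obtain ⟨n, r, hr⟩ := hz (Ideal.Quotient.mk (maximalIdeal (integralClosure R K)) (j.symm a))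
  refine ⟨n, r, ?_⟩
  have h1 : (j.symm a) ^ ringExpChar ((integralClosure R K) ⧸ maximalIdeal (integralClosure R K)) ^ n - algebraMap R _ (algebraMap A R r) ∈
      maximalIdeal (integralClosure R K) := by
    rw [← Ideal.Quotient.eq (I := maximalIdeal (integralClosure R K)), map_pow]
    exact hr.symm
  have h2 := map_nonunit j.toRingHom _ h1
  rw [map_sub, map_pow] at h2
  show _ - _ ∈ _
  convert h2 using 3
  · exact (j.apply_symm_apply a).symm
  · exact (hj r).symm

/-- The normalization of a geometrically unibranch local domain. -/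
theorem exists_normalization_radicial (A : Type u) [CommRing A] [IsDomain A] [IsLocalRing A]
    (hA : CAlg2.IsGeomUnibranch A) :
    ∃ (K : Type u) (_ : Field K) (_ : Algebra A K) (_ : IsFractionRing A K) (_ : IsLocalRing (integralClosure A K))
      (p : ℕ), IsIntegrallyClosed (integralClosure A K) ∧ ExpChar (ResidueField (integralClosure A K)) p ∧
        ∀ a : integralClosure A K, ∃ (n : ℕ) (r : A), a ^ p ^ n - algebraMap A _ r ∈ maximalIdeal _ := by
  obtain ⟨hU, hres⟩ := hA
  haveI := hU.1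
  let K := FractionRing (CAlg2.red A)
  haveI : IsLocalRing (integralClosure (CAlg2.red A) K) := hU.2
  have hbij : Function.Bijective (algebraMap A (CAlg2.red A)) :=
    ⟨(RingHom.injective_iff_ker_eq_bot (Ideal.Quotient.mk (nilradical A))).2
      (by rw [Ideal.mk_ker]; exact nilradical_eq_zero A), Ideal.Quotient.mk_surjective⟩
  obtain ⟨hK, hloc⟩ := exists_normalization_aux A (CAlg2.red A) K hbij
  haveI := hK; haveI := hloc
  haveI : Algebra.IsIntegral A (CAlg2.red A) :=
    algebraMap_isIntegral_iff.1 ((algebraMap A (CAlg2.red A)).isIntegral_of_surjective hbij.2)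
  obtain ⟨p, hp, hrad⟩ := radicial_aux A (CAlg2.red A) K fun m' hm' => ⟨ringExpChar _, @hres m' hm', rfl⟩
  exact ⟨K, inferInstance, inferInstance, hK, hloc, p, integralClosure.isIntegrallyClosedOfFiniteExtension K, hp, hrad⟩

end Groth.Agent.FlatUnibr
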