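import Groth.Agent.FlatUnibr.Point

/-!
# Flatness over a geometrically unibranch local domain: reduction to the normalization
-/

set_option autoImplicit false
set_option linter.style.haveILetI false
set_option backward.isDefEq.respectTransparency false

universe u

open CategoryTheory CategoryTheory.Limits AlgebraicGeometry TensorProduct IsLocalRing

namespace Groth.Agent.FlatUnibr

/-- A point of a base change over a point of an affine chart is a prime of the tensor product. -/
theorem exists_prime_of_point {A C B : Type u} [CommRing A] [CommRing C] [CommRing B] [Algebra A C] [Algebra A B]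
    {X : Scheme.{u}} (j : Spec (CommRingCat.of B) ⟶ X) [IsOpenImmersion j] (f : X ⟶ Spec (CommRingCat.of A))
    (hf : j ≫ f = Spec.map (CommRingCat.ofHom (algebraMap A B))) (P : PrimeSpectrum B)
    (w : ↥(pullback f (Spec.map (CommRingCat.ofHom (algebraMap A C)))))
    (hw : pullback.fst f (Spec.map (CommRingCat.ofHom (algebraMap A C))) w = j P)
    (h : ((pullback.snd f (Spec.map (CommRingCat.ofHom (algebraMap A C)))).stalkMap w).hom.Flat) :
    ∃ Q : PrimeSpectrum (C ⊗[A] B),
      Spec.map (CommRingCat.ofHom (Algebra.TensorProduct.includeLeftRingHom : C →+* C ⊗[A] B)) Q =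
        pullback.snd f (Spec.map (CommRingCat.ofHom (algebraMap A C))) w ∧
      Spec.map (CommRingCat.ofHom (Algebra.TensorProduct.includeRight : B →ₐ[A] C ⊗[A] B).toRingHom) Q = P ∧
      Module.Flat C (Localization.AtPrime Q.asIdeal) := by
  let g := Spec.map (CommRingCat.ofHom (algebraMap A C))
  let iR := Spec.map (CommRingCat.ofHom (Algebra.TensorProduct.includeRight : B →ₐ[A] C ⊗[A] B).toRingHom)
  let iL := Spec.map (CommRingCat.ofHom (Algebra.TensorProduct.includeLeftRingHom : C →+* C ⊗[A] B))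
  have sq : IsPullback iR iL (j ≫ f) g := by
    rw [hf]
    exact (FlatDvrVC5.isPullback_tensor (A := CommRingCat.of A) (S := CommRingCat.of B) C
      (CommRingCat.ofHom (algebraMap A B)) rfl).flip
  let n : Spec (CommRingCat.of (C ⊗[A] B)) ⟶ pullback f g :=
    pullback.lift (iR ≫ j) iL (by rw [Category.assoc]; exact sq.w)
  have hn : IsPullback iR n j (pullback.fst f g) := by
    refine IsPullback.of_bot ?_ (pullback.lift_fst _ _ _).symm (IsPullback.of_hasPullback f g)
    rw [pullback.lift_snd]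
    exact sq
  haveI : IsOpenImmersion n := MorphismProperty.of_isPullback hn inferInstance
  obtain ⟨v, hv₁, hv₂⟩ := Scheme.Pullback.exists_preimage_pullback (f := j) (g := pullback.fst f g)
    (P : Spec (CommRingCat.of B)) w hw.symm
  let Q : PrimeSpectrum (C ⊗[A] B) := hn.isoPullback.inv v
  have hQn : n Q = w := by
    rw [← hv₂]
    show (hn.isoPullback.inv ≫ n) v = _
    rw [hn.isoPullback_inv_snd]
  refine ⟨Q, ?_, ?_, ?_⟩
  · rw [← hQn]
    show iL Q = (n ≫ pullback.snd f g) Q
    rw [pullback.lift_snd]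
  · show (hn.isoPullback.inv ≫ iR) v = _
    rw [hn.isoPullback_inv_fst, hv₁]
  · rw [flat_atPrime_iff]
    have h2 : n ≫ pullback.snd f g = Spec.map (CommRingCat.ofHom (algebraMap C (C ⊗[A] B))) := pullback.lift_snd _ _ _
    exact FlatDvrVC5.flat_stalkMap_of_comp n _ _ h2 Q (hQn.symm ▸ h)

/-- One flat point over a normal local integral extension with radicial residue extension. -/
theorem flat_via_normal_point {A A₁ A' V B : Type u} [CommRing A] [IsLocalRing A] [CommRing A₁] [IsDomain A₁]
    [IsIntegrallyClosed A₁] [IsLocalRing A₁] [CommRing A'] [IsLocalRing A'] [CommRing V] [IsDomain V] [IsLocalRing V]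
    [CommRing B] [Algebra A A₁] [Algebra.IsIntegral A A₁] [Algebra A A'] [Algebra A V] [Algebra A₁ V] [Algebra A' V]
    [IsScalarTower A A₁ V] [IsScalarTower A A' V] [IsLocalHom (algebraMap A' V)] [IsLocalHom (algebraMap A₁ V)]
    (hinj : Function.Injective (algebraMap A A₁)) (hinj₁ : Function.Injective (algebraMap A₁ V))
    (p : ℕ) [ExpChar (ResidueField A₁) p]
    (hrad : ∀ a : A₁, ∃ (n : ℕ) (r : A), a ^ p ^ n - algebraMap A A₁ r ∈ maximalIdeal A₁)
    [Algebra A B] [Algebra.FinitePresentation A B] (P : PrimeSpectrum B)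
    (hP : P.asIdeal.comap (algebraMap A B) = maximalIdeal A) (Q' : PrimeSpectrum (A' ⊗[A] B))
    (hQl : Q'.asIdeal.comap (Algebra.TensorProduct.includeLeftRingHom : A' →+* A' ⊗[A] B) = maximalIdeal A')
    (hQr : Q'.asIdeal.comap (Algebra.TensorProduct.includeRight : B →ₐ[A] A' ⊗[A] B).toRingHom = P.asIdeal)
    (hflat : Module.Flat A' (Localization.AtPrime Q'.asIdeal)) :
    Module.Flat A (Localization.AtPrime P.asIdeal) := by
  rw [flat_atPrime_iff P]
  haveI : LocallyOfFinitePresentation (Spec.map (CommRingCat.ofHom (algebraMap A B))) :=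
    (HasRingHomProperty.Spec_iff (P := @LocallyOfFinitePresentation)).2
      (RingHom.finitePresentation_algebraMap.2 inferInstance)
  refine S2564.result (A := A) (A' := A₁) hinj (X := Spec (CommRingCat.of B))
    (Spec.map (CommRingCat.ofHom (algebraMap A B))) P fun w hw => ?_
  refine flat_stalkMap_pullback (A := A) (C := A₁) (B := B) w fun Q₁ hQ₁l hQ₁r => ?_
  have hw' : (show PrimeSpectrum B from pullback.fst (Spec.map (CommRingCat.ofHom (algebraMap A B)))
      (Spec.map (CommRingCat.ofHom (algebraMap A A₁))) w) = P := hw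
  have hQ₁r' : Q₁.asIdeal.comap (Algebra.TensorProduct.includeRight : B →ₐ[A] A₁ ⊗[A] B).toRingHom = P.asIdeal :=
    hQ₁r.trans (congrArg PrimeSpectrum.asIdeal hw')
  have hQ₁m : Q₁.asIdeal.comap (algebraMap A₁ (A₁ ⊗[A] B)) = maximalIdeal A₁ := by
    refine IsLocalRing.eq_maximalIdeal (Ideal.isMaximal_of_isIntegral_of_isMaximal_comap (R := A) _ ?_)
    have h1 : (Q₁.asIdeal.comap (algebraMap A₁ (A₁ ⊗[A] B))).comap (algebraMap A A₁) = maximalIdeal A := by
      rw [Ideal.comap_comap, ← hP, ← hQ₁r', Ideal.comap_comap]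
      refine congrArg (fun φ => Q₁.asIdeal.comap φ) (RingHom.ext fun a => ?_)
      exact (IsScalarTower.algebraMap_apply A A₁ (A₁ ⊗[A] B) a).symm.trans
        ((Algebra.TensorProduct.includeRight : B →ₐ[A] A₁ ⊗[A] B).commutes a).symm
    rw [h1]
    infer_instance
  -- a point of `V ⊗ B` above the flat point
  have hmV : (maximalIdeal V).comap (algebraMap A' V) = maximalIdeal A' :=
    le_antisymm (IsLocalRing.le_maximalIdeal (Ideal.comap_ne_top _ (maximalIdeal.isMaximal V).ne_top))
      fun a ha => map_nonunit (algebraMap A' V) a ha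
  obtain ⟨W, hWl, hWr⟩ := exists_prime_tensor (A := A') (C := V) (B := A' ⊗[A] B) (maximalIdeal V) Q'.asIdeal
    (hmV.trans hQl.symm)
  let T' := V ⊗[A'] (A' ⊗[A] B)
  let r₀ : B →ₐ[A] T' := ((Algebra.TensorProduct.includeRight : A' ⊗[A] B →ₐ[A'] T').restrictScalars A).comp
    (Algebra.TensorProduct.includeRight : B →ₐ[A] A' ⊗[A] B)
  haveI : IsScalarTower A₁ V T' := inferInstance
  haveI : IsScalarTower A A₁ T' := IsScalarTower.of_algebraMap_eq (R := A) (S := A₁) (A := T') fun a => by
    rw [IsScalarTower.algebraMap_apply A₁ V T', ← IsScalarTower.algebraMap_apply A A₁ V,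
      ← IsScalarTower.algebraMap_apply A V T']
  let r₁ : A₁ ⊗[A] B →ₐ[A₁] T' :=
    Algebra.TensorProduct.lift (Algebra.ofId A₁ T') r₀ fun _ _ => .all _ _
  let θ : V ⊗[A₁] (A₁ ⊗[A] B) →ₐ[A₁] T' :=
    Algebra.TensorProduct.lift (IsScalarTower.toAlgHom A₁ V T') r₁ fun _ _ => .all _ _
  let Q : Ideal (V ⊗[A₁] (A₁ ⊗[A] B)) := W.asIdeal.comap θ.toRingHom
  have hθ : ∀ (v : V) (c : A₁) (b : B), θ.toRingHom (v ⊗ₜ[A₁] (c ⊗ₜ[A] b)) =
      algebraMap V T' v * (algebraMap A₁ T' c * ((1 : V) ⊗ₜ[A'] ((1 : A') ⊗ₜ[A] b) : T')) := by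
    intro v c b
    show θ (v ⊗ₜ[A₁] (c ⊗ₜ[A] b)) = _
    rw [Algebra.TensorProduct.lift_tmul, Algebra.TensorProduct.lift_tmul]
    rfl
  haveI : Q.IsPrime := Ideal.comap_isPrime _ _
  have hQflat : Module.Flat V (Localization.AtPrime Q) := by
    refine flat_transfer_point (A := A) (A₁ := A₁) (A' := A') (V := V) (B := B) Q'.asIdeal hflat Q ?_
    show (W.asIdeal.comap θ.toRingHom).comap _ ≤ _
    rw [Ideal.comap_comap, ← hWr]
    refine le_of_eq (congrArg (fun φ => W.asIdeal.comap φ) ?_)
    refine RingHom.ext fun z => ?_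
    induction z using TensorProduct.induction_on with
    | zero => simp
    | tmul a b =>
      rw [RingHom.comp_apply]
      show θ.toRingHom (Algebra.TensorProduct.lift _ _ _ (a ⊗ₜ[A] b)) = _
      rw [Algebra.TensorProduct.lift_tmul]
      show θ.toRingHom (((algebraMap A' V a) ⊗ₜ[A₁] (1 : A₁ ⊗[A] B)) * ((1 : V) ⊗ₜ[A₁] ((1 : A₁) ⊗ₜ[A] b))) = _
      rw [Algebra.TensorProduct.tmul_mul_tmul, mul_one, one_mul, hθ]
      rw [map_one, one_mul, show algebraMap V T' (algebraMap A' V a) = (algebraMap A' V a) ⊗ₜ[A'] (1 : A' ⊗[A] B)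
        from rfl, Algebra.TensorProduct.tmul_mul_tmul, one_mul, mul_one]
      show _ = (1 : V) ⊗ₜ[A'] (a ⊗ₜ[A] b)
      rw [show ((1 : V) ⊗ₜ[A'] (a ⊗ₜ[A] b) : T') = (1 : V) ⊗ₜ[A'] (a • ((1 : A') ⊗ₜ[A] b)) by
        rw [TensorProduct.smul_tmul', smul_eq_mul, mul_one], ← TensorProduct.smul_tmul,
        ← Algebra.algebraMap_eq_smul_one]
    | add a b ha hb => simp only [map_add, ha, hb]
  refine flat_normal_point (A := A₁) (V := V) (B := A₁ ⊗[A] B) hinj₁ Q hQflat Q₁.asIdeal ?_
  refine prime_unique_of_radicial p hrad _ _ ?_ hQ₁m ?_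
  · refine le_antisymm (IsLocalRing.le_maximalIdeal (Ideal.IsPrime.ne_top inferInstance)) fun a ha => ?_
    show θ.toRingHom ((1 : V) ⊗ₜ[A₁] (a ⊗ₜ[A] (1 : B))) ∈ W.asIdeal
    have h1 : algebraMap A₁ V a ∈ maximalIdeal V := map_nonunit (algebraMap A₁ V) a ha
    rw [← hWl] at h1
    rw [hθ, map_one, one_mul, IsScalarTower.algebraMap_apply A₁ V T', ← Algebra.TensorProduct.one_def,
      ← Algebra.TensorProduct.one_def, mul_one]
    exact h1
  · rw [hQ₁r', ← hQr, ← hWr, Ideal.comap_comap, Ideal.comap_comap, Ideal.comap_comap]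
    refine congrArg (fun φ => W.asIdeal.comap φ) (RingHom.ext fun b => ?_)
    refine (hθ _ _ _).trans ?_
    rw [map_one, map_one, one_mul, one_mul]
    rfl

/-- One flat point suffices over a geometrically unibranch local domain. -/
theorem flat_geomUnibranch {A A' B : Type u} [CommRing A] [IsDomain A] [IsLocalRing A] (hA : CAlg2.IsGeomUnibranch A)
    [CommRing A'] [IsLocalRing A'] [Algebra A A'] [IsLocalHom (algebraMap A A')]
    (hinj : Function.Injective (algebraMap A A')) [CommRing B] [Algebra A B] [Algebra.FinitePresentation A B]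
    (P : PrimeSpectrum B) (hP : P.asIdeal.comap (algebraMap A B) = maximalIdeal A)
    (Q' : PrimeSpectrum (A' ⊗[A] B))
    (hQl : Q'.asIdeal.comap (Algebra.TensorProduct.includeLeftRingHom : A' →+* A' ⊗[A] B) = maximalIdeal A')
    (hQr : Q'.asIdeal.comap (Algebra.TensorProduct.includeRight : B →ₐ[A] A' ⊗[A] B).toRingHom = P.asIdeal)
    (hflat : Module.Flat A' (Localization.AtPrime Q'.asIdeal)) :
    Module.Flat A (Localization.AtPrime P.asIdeal) := by
  obtain ⟨K, _, _, _, hloc, p, hnorm, hp, hrad⟩ := exists_normalization_radicial A hA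
  let Ā := integralClosure A K
  haveI : IsIntegrallyClosed Ā := hnorm
  haveI := hp
  have hĀinj : Function.Injective (algebraMap A Ā) := fun a b h =>
    IsFractionRing.injective A K (congrArg Subtype.val h)
  obtain ⟨V, _, _, _, _, φ, hφ, hφinj⟩ := exists_dominating_domain A A' hinj
  letI : Algebra A' V := φ.toAlgebra
  letI : Algebra A V := (φ.comp (algebraMap A A')).toAlgebra
  haveI : IsScalarTower A A' V := .of_algebraMap_eq fun _ => rfl
  haveI hA'V : IsLocalHom (algebraMap A' V) := hφ
  haveI hAV : IsLocalHom (algebraMap A V) := RingHom.isLocalHom_comp (algebraMap A' V) (algebraMap A A')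
  haveI : FaithfulSMul A V := (faithfulSMul_iff_algebraMap_injective A V).2 hφinj
  obtain ⟨i, hi, hir⟩ := exists_hom_integralClosure A V K
  letI : Algebra Ā V := i.toAlgebra
  haveI : IsScalarTower A Ā V := .of_algebraMap_eq fun a => (hir a).symm
  haveI : IsLocalHom (algebraMap Ā V) := by
    have hm : (maximalIdeal V).comap (algebraMap Ā V) = maximalIdeal Ā := by
      refine IsLocalRing.eq_maximalIdeal (Ideal.isMaximal_of_isIntegral_of_isMaximal_comap (R := A) _ ?_)
      rw [Ideal.comap_comap, ← IsScalarTower.algebraMap_eq]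
      have hm' : (maximalIdeal V).comap (algebraMap A V) = maximalIdeal A :=
        le_antisymm (IsLocalRing.le_maximalIdeal (Ideal.comap_ne_top _ (maximalIdeal.isMaximal V).ne_top))
          fun a ha => map_nonunit (algebraMap A V) a ha
      rw [hm']
      infer_instance
    exact ⟨fun a ha => by_contra fun hna => (maximalIdeal.isMaximal V).ne_top
      (Ideal.eq_top_of_isUnit_mem _ (show algebraMap Ā V a ∈ maximalIdeal V from hm.ge hna) ha)⟩
  exact flat_via_normal_point (A₁ := Ā) (V := V) hĀinj hi p hrad P hP Q' hQl hQr hflat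

end Groth.Agent.FlatUnibr
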