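import Groth.Agent.FlatUnibr.NormalBase
import Groth.Agent.PopescuLib.StrictGRing
import Groth.Agent.S2748
import Groth.Agent.S0540
import Groth.Agent.S0539
import Groth.Agent.S0537
import Groth.Agent.RigPt7.Base

/-!
# One flat point suffices: passage to the strict henselization
-/

set_option autoImplicit false
set_option linter.style.haveILetI false

universe u

open CategoryTheory CategoryTheory.Limits AlgebraicGeometry TensorProduct IsLocalRing

namespace Groth.Agent.FlatUnibr

/-- Primes of a tensor product over compatible primes. -/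
theorem exists_prime_tensor {A C B : Type u} [CommRing A] [CommRing C] [CommRing B] [Algebra A C] [Algebra A B]
    (c : Ideal C) [c.IsPrime] (b : Ideal B) [b.IsPrime] (h : c.comap (algebraMap A C) = b.comap (algebraMap A B)) :
    ∃ Q : PrimeSpectrum (C ⊗[A] B),
      Q.asIdeal.comap (Algebra.TensorProduct.includeLeftRingHom : C →+* C ⊗[A] B) = c ∧
      Q.asIdeal.comap (Algebra.TensorProduct.includeRight : B →ₐ[A] C ⊗[A] B).toRingHom = b := by
  have sq := (FlatDvrVC5.isPullback_tensor (A := CommRingCat.of A) (S := CommRingCat.of B) C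
    (CommRingCat.ofHom (algebraMap A B)) rfl).flip
  obtain ⟨w, hw₁, hw₂⟩ := Scheme.Pullback.exists_preimage_pullback
    (f := Spec.map (CommRingCat.ofHom (algebraMap A B))) (g := Spec.map (CommRingCat.ofHom (algebraMap A C)))
    (⟨b, inferInstance⟩ : PrimeSpectrum B) (⟨c, inferInstance⟩ : PrimeSpectrum C) (PrimeSpectrum.ext h.symm)
  refine ⟨sq.isoPullback.inv w, ?_, ?_⟩
  · have e : Spec.map (CommRingCat.ofHom (Algebra.TensorProduct.includeLeftRingHom : C →+* C ⊗[A] B))
        (sq.isoPullback.inv w) = (⟨c, inferInstance⟩ : PrimeSpectrum C) := by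
      rw [← Scheme.Hom.comp_apply, sq.isoPullback_inv_snd]; exact hw₂
    exact congrArg PrimeSpectrum.asIdeal e
  · have e : Spec.map (CommRingCat.ofHom (Algebra.TensorProduct.includeRight : B →ₐ[A] C ⊗[A] B).toRingHom)
        (sq.isoPullback.inv w) = (⟨b, inferInstance⟩ : PrimeSpectrum B) := by
      rw [← Scheme.Hom.comp_apply, sq.isoPullback_inv_fst]; exact hw₁
    exact congrArg PrimeSpectrum.asIdeal e

/-- Flatness passes from a point of `A' ⊗ B` to the points of `V ⊗ (A₁ ⊗ B)` above it. -/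
theorem flat_transfer_point {A A₁ A' V B : Type u} [CommRing A] [CommRing A₁] [CommRing A'] [CommRing V] [CommRing B]
    [Algebra A A₁] [Algebra A A'] [Algebra A V] [Algebra A₁ V] [Algebra A' V] [Algebra A B]
    [IsScalarTower A A₁ V] [IsScalarTower A A' V]
    (Q₀ : Ideal (A' ⊗[A] B)) [Q₀.IsPrime] (h : Module.Flat A' (Localization.AtPrime Q₀))
    (Q : Ideal (V ⊗[A₁] (A₁ ⊗[A] B))) [Q.IsPrime]
    (hQ : Q.comap (Algebra.TensorProduct.lift
      ((IsScalarTower.toAlgHom A V (V ⊗[A₁] (A₁ ⊗[A] B))).comp (IsScalarTower.toAlgHom A A' V))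
      (((Algebra.TensorProduct.includeRight : A₁ ⊗[A] B →ₐ[A₁] V ⊗[A₁] (A₁ ⊗[A] B)).restrictScalars A).comp
        (Algebra.TensorProduct.includeRight : B →ₐ[A] A₁ ⊗[A] B)) fun _ _ => .all _ _).toRingHom ≤ Q₀) :
    Module.Flat V (Localization.AtPrime Q) := by
  let B₁ := A₁ ⊗[A] B
  letI : Algebra B B₁ := Algebra.TensorProduct.rightAlgebra
  let T := V ⊗[A₁] B₁
  let r : B →ₐ[A] T := ((Algebra.TensorProduct.includeRight : B₁ →ₐ[A₁] T).restrictScalars A).comp
      (Algebra.TensorProduct.includeRight : B →ₐ[A] B₁)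
  let ψ : A' ⊗[A] B →ₐ[A] T := Algebra.TensorProduct.lift
    ((IsScalarTower.toAlgHom A V T).comp (IsScalarTower.toAlgHom A A' V)) r fun _ _ => .all _ _
  letI : Algebra B T := r.toRingHom.toAlgebra
  letI : Algebra B₁ T := Algebra.TensorProduct.rightAlgebra
  haveI : IsScalarTower B B₁ T := .of_algebraMap_eq fun _ => rfl
  haveI : IsScalarTower A B T := .of_algebraMap_eq fun a => (r.commutes a).symm
  haveI : IsScalarTower A B₁ T := .of_algebraMap_eq fun a =>
    (((Algebra.TensorProduct.includeRight : B₁ →ₐ[A₁] T).restrictScalars A).commutes a).symm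
  haveI hbig : Algebra.IsPushout A V B T :=
    (Algebra.IsPushout.comp_iff (R := A) (S := A₁) (R' := B) (S' := B₁) (T := V) (T' := T)).2 inferInstance
  letI : Algebra (A' ⊗[A] B) T := ψ.toRingHom.toAlgebra
  letI : Algebra B (A' ⊗[A] B) := Algebra.TensorProduct.rightAlgebra
  haveI : IsScalarTower A' (A' ⊗[A] B) T := .of_algebraMap_eq fun a => by
    show algebraMap A' T a = ψ (a ⊗ₜ 1)
    simp [ψ, IsScalarTower.algebraMap_apply A' V T]
  haveI : IsScalarTower B (A' ⊗[A] B) T := .of_algebraMap_eq fun b => by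
    show r b = ψ (1 ⊗ₜ b)
    simp [ψ]
  haveI : IsScalarTower A (A' ⊗[A] B) T := .of_algebraMap_eq fun a => (ψ.commutes a).symm
  haveI : Algebra.IsPushout A' V (A' ⊗[A] B) T :=
    (Algebra.IsPushout.comp_iff (R := A) (S := A') (R' := B) (S' := A' ⊗[A] B) (T := V) (T' := T)).1 hbig
  exact flat_atPrime_of_pushout (A := A') (A' := V) (B := A' ⊗[A] B) (B' := T) Q₀.primeCompl h Q
    fun m hm hmem => hm (hQ hmem)

/-- A non-zero element stays out of the minimal primes of the base change by a dominating domain. -/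
theorem notMem_minimalPrimes {R D C : Type u} [CommRing R] [IsDomain R] [CommRing D] [IsDomain D] [Algebra R D]
    [Module.Flat R D] [CommRing C] [IsDomain C] [Algebra R C] (hinj : Function.Injective (algebraMap R C))
    (a : D) (ha : a ≠ 0) (w : Ideal (D ⊗[R] C)) (hw : w ∈ minimalPrimes (D ⊗[R] C)) :
    algebraMap D (D ⊗[R] C) a ∉ w := fun h =>
  Set.disjoint_left.1 (Ideal.disjoint_nonZeroDivisors_of_mem_minimalPrimes hw) h
    (mem_nonZeroDivisors_iff.2 ⟨fun t ht => includeLeft_mul_eq_zero hinj a ha t ht,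
      fun t ht => includeLeft_mul_eq_zero hinj a ha t (by rwa [mul_comm] at ht)⟩)

/-- The strictly henselian step. -/
theorem flat_stage_strict {R S B H : Type u} [CommRing R] [IsDomain R] [CommRing S] [IsDomain S] [Algebra R S]
    [Algebra.FiniteType R S] (hinj : Function.Injective (algebraMap R S)) [CommRing B] [Algebra R B]
    [Algebra.FinitePresentation R B] [CommRing H] [IsDomain H] [IsIntegrallyClosed H] [IsLocalRing H] [Algebra R H]
    [Module.Flat R H] (hH : CAlg.IsGRing H) (hk : IsSepClosed (ResidueField H))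
    (p : Ideal R) [p.IsPrime] (hHp : (maximalIdeal H).comap (algebraMap R H) = p)
    (P : Ideal B) [P.IsPrime] (Q₀ : Ideal (S ⊗[R] B)) [Q₀.IsPrime]
    (hQ₀ : Q₀.comap (Algebra.TensorProduct.includeRight : B →ₐ[R] S ⊗[R] B).toRingHom = P)
    (hP : P.comap (algebraMap R B) = p) (hflat : Module.Flat S (Localization.AtPrime Q₀)) :
    ∃ P₁ : PrimeSpectrum (H ⊗[R] B),
      P₁.asIdeal.comap (Algebra.TensorProduct.includeRight : B →ₐ[R] H ⊗[R] B).toRingHom = P ∧
      Module.Flat H (Localization.AtPrime P₁.asIdeal) := by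
  haveI := hH.1
  let iL : H →+* H ⊗[R] (S ⊗[R] B) := Algebra.TensorProduct.includeLeftRingHom
  obtain ⟨W₀, hW₀l, hW₀r⟩ := exists_prime_tensor (A := R) (C := H) (B := S ⊗[R] B) (maximalIdeal H) Q₀ (by
    rw [hHp, ← hP, ← hQ₀, Ideal.comap_comap]
    exact congrArg (fun φ => Q₀.comap φ) (RingHom.ext fun r =>
      ((Algebra.TensorProduct.includeRight : B →ₐ[R] S ⊗[R] B).commutes r)))
  let ρS : H ⊗[R] S →ₐ[H] H ⊗[R] (S ⊗[R] B) :=
    Algebra.TensorProduct.map (AlgHom.id H H) (Algebra.TensorProduct.includeLeft : S →ₐ[R] S ⊗[R] B)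
  let ρB : H ⊗[R] B →ₐ[H] H ⊗[R] (S ⊗[R] B) :=
    Algebra.TensorProduct.map (AlgHom.id H H) (Algebra.TensorProduct.includeRight : B →ₐ[R] S ⊗[R] B)
  let q₁ : Ideal (H ⊗[R] S) := W₀.asIdeal.comap ρS.toRingHom
  let P₁ : PrimeSpectrum (H ⊗[R] B) := ⟨W₀.asIdeal.comap ρB.toRingHom, Ideal.comap_isPrime _ _⟩
  have hP₁P : P₁.asIdeal.comap (Algebra.TensorProduct.includeRight : B →ₐ[R] H ⊗[R] B).toRingHom = P := by
    rw [← hQ₀, ← hW₀r, Ideal.comap_comap, Ideal.comap_comap]
    exact congrArg (fun φ => W₀.asIdeal.comap φ) (RingHom.ext fun b => by simp [ρB])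
  have hP₁H : P₁.asIdeal.comap (algebraMap H (H ⊗[R] B)) = maximalIdeal H := by
    rw [← hW₀l, Ideal.comap_comap]
    exact congrArg (fun φ => W₀.asIdeal.comap φ) (RingHom.ext fun a => ρB.commutes a)
  have hq₁H : q₁.comap (algebraMap H (H ⊗[R] S)) = maximalIdeal H := by
    rw [← hW₀l, Ideal.comap_comap]
    exact congrArg (fun φ => W₀.asIdeal.comap φ) (RingHom.ext fun a => ρS.commutes a)
  haveI : q₁.IsPrime := Ideal.comap_isPrime _ _
  obtain ⟨w, hw, hwq⟩ := Ideal.exists_minimalPrimes_le (I := (⊥ : Ideal (H ⊗[R] S))) (J := q₁) bot_le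
  haveI : w.IsPrime := hw.1.1
  let C := (H ⊗[R] S) ⧸ w
  let q : Ideal C := q₁.map (Ideal.Quotient.mk w)
  haveI : q.IsPrime := Ideal.map_isPrime_of_surjective Ideal.Quotient.mk_surjective (by rw [Ideal.mk_ker]; exact hwq)
  have hqq : q.comap (Ideal.Quotient.mk w) = q₁ := by
    rw [Ideal.comap_map_of_surjective' _ Ideal.Quotient.mk_surjective, Ideal.mk_ker, sup_eq_left]
    exact hwq
  have hqH : q.comap (algebraMap H C) = maximalIdeal H := by
    rw [← hq₁H, ← hqq, Ideal.comap_comap]; rfl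
  haveI : q.LiesOver (maximalIdeal H) := ⟨hqH.symm⟩
  haveI : P₁.asIdeal.LiesOver (maximalIdeal H) := ⟨hP₁H.symm⟩
  haveI : Algebra.FiniteType H C := Algebra.FiniteType.trans (S := H ⊗[R] S) inferInstance inferInstance
  have hinjC : Function.Injective (algebraMap H C) := by
    rw [injective_iff_map_eq_zero]
    intro a ha
    by_contra hne
    exact notMem_minimalPrimes hinj a hne w hw (Ideal.Quotient.eq_zero_iff_mem.1 ha)
  -- a point of `C ⊗ (H ⊗ B)` over the flat point
  let SH := H ⊗[R] S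
  letI : Algebra SH (H ⊗[R] (S ⊗[R] B)) := ρS.toRingHom.toAlgebra
  haveI : IsScalarTower H SH (H ⊗[R] (S ⊗[R] B)) := .of_algebraMap_eq fun a => (ρS.commutes a).symm
  obtain ⟨W₁, hW₁l, hW₁r⟩ := exists_prime_tensor (A := SH) (C := C) (B := H ⊗[R] (S ⊗[R] B)) q W₀.asIdeal
    (hqq.trans rfl)
  let θ : C ⊗[H] (H ⊗[R] B) →ₐ[H] C ⊗[SH] (H ⊗[R] (S ⊗[R] B)) := Algebra.TensorProduct.lift
    ((Algebra.TensorProduct.includeLeft : C →ₐ[SH] C ⊗[SH] (H ⊗[R] (S ⊗[R] B))).restrictScalars H)
    (((Algebra.TensorProduct.includeRight : H ⊗[R] (S ⊗[R] B) →ₐ[SH] C ⊗[SH] (H ⊗[R] (S ⊗[R] B))).restrictScalars H).comp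
      ρB) fun x y => Commute.all (S := C ⊗[SH] (H ⊗[R] (S ⊗[R] B))) _ _
  let Q : PrimeSpectrum (C ⊗[H] (H ⊗[R] B)) := ⟨W₁.asIdeal.comap θ.toRingHom, Ideal.comap_isPrime _ _⟩
  have hQl : Q.asIdeal.comap (Algebra.TensorProduct.includeLeftRingHom : C →+* C ⊗[H] (H ⊗[R] B)) = q := by
    rw [← hW₁l, Ideal.comap_comap]
    exact congrArg (fun φ => W₁.asIdeal.comap φ) (RingHom.ext fun c => by simp [θ])
  have hQr : Q.asIdeal.comap (Algebra.TensorProduct.includeRight : H ⊗[R] B →ₐ[H] C ⊗[H] (H ⊗[R] B)).toRingHom =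
      P₁.asIdeal := by
    show _ = W₀.asIdeal.comap ρB.toRingHom
    rw [← hW₁r, Ideal.comap_comap, Ideal.comap_comap]
    exact congrArg (fun φ => W₁.asIdeal.comap φ) (RingHom.ext fun z => by simp [θ])
  letI : Algebra S C := ((Ideal.Quotient.mk w).comp
    (Algebra.TensorProduct.includeRight : S →ₐ[R] H ⊗[R] S).toRingHom).toAlgebra
  haveI : IsScalarTower R S C := .of_algebraMap_eq fun r => by
    rw [IsScalarTower.algebraMap_apply R SH C]
    exact congrArg (Ideal.Quotient.mk w) ((Algebra.TensorProduct.includeRight : S →ₐ[R] H ⊗[R] S).commutes r).symm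
  have hQflat : Module.Flat C (Localization.AtPrime Q.asIdeal) := by
    refine flat_transfer_point (A := R) (A₁ := H) (A' := S) (V := C) (B := B) Q₀ hflat Q.asIdeal ?_
    show (W₁.asIdeal.comap θ.toRingHom).comap _ ≤ _
    rw [Ideal.comap_comap, ← hW₀r, ← hW₁r, Ideal.comap_comap]
    refine le_of_eq (congrArg (fun φ => W₁.asIdeal.comap φ) ?_)
    refine RingHom.ext fun z => ?_
    induction z using TensorProduct.induction_on with
    | zero => simp
    | tmul s b =>
      have h1 : (1 : H) ⊗ₜ[R] (s ⊗ₜ[R] b) =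
          ((1 : H) ⊗ₜ[R] s : SH) • ((1 : H) ⊗ₜ[R] ((1 : S) ⊗ₜ[R] b) : H ⊗[R] (S ⊗[R] B)) := by
        rw [Algebra.smul_def]
        show _ = ρS ((1 : H) ⊗ₜ[R] s) * _
        simp [ρS]
      have h2 : ((1 : H) ⊗ₜ[R] s : SH) • (1 : C) = algebraMap S C s := by
        rw [← Algebra.algebraMap_eq_smul_one]
        rfl
      simp [θ, ρB]
      rw [h1, ← TensorProduct.smul_tmul, h2]
    | add a b ha hb => simp only [map_add, ha, hb]
  refine ⟨P₁, hP₁P, flat_of_dominating_primary (maximalIdeal H) q P₁.asIdeal (exists_top_bound hH hinjC _ q) ?_ Q hQl hQr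
    hQflat⟩
  haveI := hk
  exact Hensel.isSepClosed_of_ringEquiv (k := ResidueField H)
    (RingEquiv.ofBijective _ (maximalIdeal H).bijective_algebraMap_quotient_residueField)

/-- The Noetherian step for one point. -/
theorem flat_stage_point {R S B : Type u} [CommRing R] [IsDomain R] [IsIntegrallyClosed R] (hR : CAlg.IsGRing R)
    [CommRing S] [IsDomain S] [Algebra R S] [Algebra.FiniteType R S] (hinj : Function.Injective (algebraMap R S))
    [CommRing B] [Algebra R B] [Algebra.FinitePresentation R B] (p : Ideal R) [p.IsPrime]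
    (P : Ideal B) [P.IsPrime] (hP : P.comap (algebraMap R B) = p) (Q₀ : Ideal (S ⊗[R] B)) [Q₀.IsPrime]
    (hQ₀ : Q₀.comap (Algebra.TensorProduct.includeRight : B →ₐ[R] S ⊗[R] B).toRingHom = P)
    (hflat : Module.Flat S (Localization.AtPrime Q₀)) :
    Module.Flat R (Localization.AtPrime P) := by
  haveI := hR.1
  let Rp := Localization.AtPrime p
  haveI : IsNoetherianRing Rp := IsLocalization.isNoetherianRing p.primeCompl _ hR.1
  haveI : IsDomain Rp := IsLocalization.isDomain_localization p.primeCompl_le_nonZeroDivisors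
  haveI : IsIntegrallyClosed Rp :=
    isIntegrallyClosed_of_isLocalization _ p.primeCompl p.primeCompl_le_nonZeroDivisors
  have hRp : CAlg.IsGRing Rp := CplFib6.isGRing_localization hR p.primeCompl Rp
  obtain ⟨H, _, _, _, _, hsh⟩ := S0537.result Rp
  haveI := hsh
  obtain ⟨hd, hn⟩ := (S2748.result Rp H).2 ⟨inferInstance, inferInstance⟩
  haveI := hd; haveI := hn
  haveI := (S0539.result Rp H).toFlat
  letI : Algebra R H := ((algebraMap Rp H).comp (algebraMap R Rp)).toAlgebra
  haveI : IsScalarTower R Rp H := .of_algebraMap_eq fun _ => rfl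
  haveI : Module.Flat R Rp := IsLocalization.flat Rp p.primeCompl
  haveI : Module.Flat R H := Module.Flat.trans R Rp H
  have hk : IsSepClosed (ResidueField H) := hsh.isSepClosure.sep_closed
  obtain ⟨P₁, hP₁, hflat₁⟩ := flat_stage_strict (H := H) hinj (PopescuLib.isGRing_of_isStrictHenselization hRp) hk p
    (by
      rw [IsScalarTower.algebraMap_eq R Rp H, ← Ideal.comap_comap,
        show (maximalIdeal H).comap (algebraMap Rp H) = maximalIdeal Rp from
          le_antisymm (IsLocalRing.le_maximalIdeal (Ideal.comap_ne_top _ (maximalIdeal.isMaximal H).ne_top))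
            fun a ha => map_nonunit (algebraMap Rp H) a ha]
      exact IsLocalization.AtPrime.under_maximalIdeal Rp p)
    P Q₀ hQ₀ hP hflat
  -- descend along the faithfully flat local map
  let B₁ := H ⊗[R] B
  letI : Algebra B B₁ := Algebra.TensorProduct.rightAlgebra
  haveI : Module.Flat B B₁ := Module.Flat.of_linearEquiv
    (Algebra.IsPushout.equiv R B H B₁).toLinearEquiv.symm
  haveI : P₁.asIdeal.LiesOver P := ⟨hP₁.symm⟩
  let L := Localization.AtPrime P
  let L₁ := Localization.AtPrime P₁.asIdeal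
  haveI : Module.Flat B L₁ :=
    haveI : Module.Flat B₁ L₁ := IsLocalization.flat L₁ P₁.asIdeal.primeCompl
    Module.Flat.trans B B₁ L₁
  letI : Algebra L L₁ := (Localization.localRingHom P P₁.asIdeal (algebraMap B B₁) hP₁.symm).toAlgebra
  haveI : IsScalarTower B L L₁ := .of_algebraMap_eq fun b => by
    show _ = Localization.localRingHom P P₁.asIdeal (algebraMap B B₁) hP₁.symm (algebraMap B L b)
    rw [Localization.localRingHom_to_map]
    exact IsScalarTower.algebraMap_apply B B₁ L₁ b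
  haveI : Module.Flat L L₁ := (Module.flat_iff_of_isLocalization L P.primeCompl L₁).2 inferInstance
  haveI : IsLocalHom (algebraMap L L₁) :=
    inferInstanceAs (IsLocalHom (Localization.localRingHom P P₁.asIdeal (algebraMap B B₁) hP₁.symm))
  haveI : Module.FaithfullyFlat L L₁ := Module.FaithfullyFlat.of_flat_of_isLocalHom
  haveI := hflat₁
  haveI : Module.Flat R L₁ := Module.Flat.trans R H L₁
  haveI : IsScalarTower R L L₁ := .of_algebraMap_eq fun r => by
    rw [IsScalarTower.algebraMap_apply R B L, ← IsScalarTower.algebraMap_apply B L L₁,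
      IsScalarTower.algebraMap_apply B B₁ L₁, IsScalarTower.algebraMap_apply R B₁ L₁]
    exact congrArg _ ((Algebra.TensorProduct.includeRight : B →ₐ[R] B₁).commutes r).symm
  exact RigPt7.flat_of_faithfullyFlat R L L₁

end Groth.Agent.FlatUnibr
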